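import Mathlib
import Cfsg.Agent.Lib.Helper6.ClassTwoPow
import Cfsg.Agent.Lib.Lead.PQ
import Cfsg.Agent.Lib.Lead.Charac
import Cfsg.Agent.Lib.Lead.PFrat

set_option autoImplicit false

namespace Cfsg.Agent.Lib.Helper6

open scoped commutatorElement

/-- Coprime automorphisms of a `p`-group that centralize all elements of order `p`
(and of order `4` when `p = 2`) are trivial (internal form, induction on the order). -/
theorem centralizes_of_centralizes_omega_aux {X : Type*} [Group X] [Finite X] {p : ℕ}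
    [Fact p.Prime] (A : Subgroup X) (hA : (Nat.card A).Coprime p) :
    ∀ (n : ℕ) (P : Subgroup X), Nat.card P = n → IsPGroup p P →
      A ≤ Subgroup.normalizer (P : Set X) →
      (∀ x ∈ P, (x ^ p = 1 ∨ (p = 2 ∧ x ^ 4 = 1)) → ∀ a ∈ A, a * x * a⁻¹ = x) →
      A ≤ Subgroup.centralizer (P : Set X) := by
  have hp : p.Prime := Fact.out
  intro n
  induction n using Nat.strong_induction_on with
  | _ n ih =>
    intro P hn hP hAP hΩ
    have hprop : ∀ Q : Subgroup X, Q < P → A ≤ Subgroup.normalizer (Q : Set X) →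
        A ≤ Subgroup.centralizer (Q : Set X) := by
      intro Q hQ hAQ
      have hlt : Nat.card Q < n := by
        rw [← hn]
        have h1 : Nat.card Q ∣ Nat.card P := Subgroup.card_dvd_of_le hQ.le
        have h2 : Nat.card Q ≠ Nat.card P := by
          intro h
          exact hQ.ne (Subgroup.eq_of_le_of_card_ge hQ.le (le_of_eq h.symm))
        exact lt_of_le_of_ne (Nat.le_of_dvd Nat.card_pos h1) h2
      exact ih (Nat.card Q) hlt Q rfl (hP.to_le hQ.le) hAQ (fun x hx => hΩ x (hQ.le hx))
    suffices h : ⁅P, A⁆ = ⊥ by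
      rw [Subgroup.commutator_eq_bot_iff_le_centralizer] at h
      intro a ha
      rw [Subgroup.mem_centralizer_iff]
      intro x hx
      exact ((Subgroup.mem_centralizer_iff.mp (h hx)) a ha).symm
    have _ : Group.IsNilpotent P := hP.isNilpotent
    have hsolv : Group.IsSolvable A ∨ Group.IsSolvable P := Or.inr inferInstance
    have hcop : (Nat.card A).Coprime (Nat.card P) := by
      obtain ⟨k, hk⟩ := hP.exists_card_eq
      rw [hk]; exact hA.pow_right k
    have hcc := Cfsg.Agent.Lib.Lead.commutator_commutator_eq_of_coprime A P hAP hcop hsolv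
    have hDP : ⁅P, A⁆ ≤ P := Cfsg.Agent.Lib.Lead.commutator_le_of_le_normalizer P A hAP
    have hAD : A ≤ Subgroup.normalizer ((⁅P, A⁆ : Subgroup X) : Set X) :=
      Cfsg.Agent.Lib.Lead.le_normalizer_commutator_right P A
    -- it suffices to show that `A` centralizes `[P, A]`
    suffices hcent : ⁅P, A⁆ ≤ Subgroup.centralizer (A : Set X) by
      rw [← hcc]
      exact Subgroup.commutator_eq_bot_iff_le_centralizer.mpr hcent
    by_cases hlt : ⁅P, A⁆ = P
    · -- the main case
      by_cases hPbot : P = ⊥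
      · rw [hPbot, Subgroup.commutator_bot_left]; exact bot_le
      have hΦlt : (frattini ↥P).map P.subtype < P := by
        refine lt_of_le_of_ne (Subgroup.map_subtype_le _) ?_
        intro h
        have h1 : frattini ↥P = ⊤ := by
          apply Subgroup.map_injective P.subtype_injective
          rw [h, ← MonoidHom.range_eq_map, Subgroup.range_subtype]
        have h2 : (⊥ : Subgroup ↥P) = ⊤ := frattini_nongenerating (by rw [h1]; simp)
        apply hPbot
        rw [eq_bot_iff]
        intro x hx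
        have : (⟨x, hx⟩ : ↥P) ∈ (⊥ : Subgroup ↥P) := by rw [h2]; trivial
        rw [Subgroup.mem_bot] at this
        exact congrArg Subtype.val this
      have hΦA : A ≤ Subgroup.normalizer (((frattini ↥P).map P.subtype : Subgroup X) : Set X) :=
        hAP.trans (Cfsg.Agent.Lib.Lead.le_normalizer_map_of_characteristic P (frattini ↥P))
      have hΦcent := hprop _ hΦlt hΦA
      have hΦA0 : ⁅A, (frattini ↥P).map P.subtype⁆ = ⊥ :=
        Subgroup.commutator_eq_bot_iff_le_centralizer.mpr hΦcent
      have hΦP : ⁅(frattini ↥P).map P.subtype, P⁆ ≤ (frattini ↥P).map P.subtype := by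
        rw [Subgroup.commutator_le]
        rintro _ ⟨z, hz, rfl⟩ x hx
        have hn : (frattini ↥P).Normal := inferInstance
        refine ⟨⁅z, ⟨x, hx⟩⁆, ?_, rfl⟩
        have e : ⁅z, (⟨x, hx⟩ : ↥P)⁆ = z * ((⟨x, hx⟩ : ↥P) * z⁻¹ * (⟨x, hx⟩ : ↥P)⁻¹) := by
          rw [commutatorElement_def]; group
        rw [e]
        exact Subgroup.mul_mem _ hz (hn.conj_mem _ (Subgroup.inv_mem _ hz) _)
      have h1 : ⁅⁅A, (frattini ↥P).map P.subtype⁆, P⁆ = ⊥ := by
        rw [hΦA0, Subgroup.commutator_bot_left]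
      have h2 : ⁅⁅(frattini ↥P).map P.subtype, P⁆, A⁆ = ⊥ := by
        rw [Subgroup.commutator_eq_bot_iff_le_centralizer]
        intro x hx
        rw [Subgroup.mem_centralizer_iff]
        intro a ha
        exact ((Subgroup.mem_centralizer_iff.mp (hΦcent ha)) x (hΦP hx)).symm
      have h3 := Subgroup.commutator_commutator_eq_bot_of_rotate h1 h2
      rw [hlt, Subgroup.commutator_eq_bot_iff_le_centralizer] at h3
      -- the Frattini subgroup is central in `P`
      have hΦZ : ∀ z ∈ (frattini ↥P).map P.subtype, ∀ x ∈ P, z * x = x * z := by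
        intro z hz x hx
        exact ((Subgroup.mem_centralizer_iff.mp (h3 hx)) z hz)
      obtain ⟨hcomm, hpow⟩ := Cfsg.Agent.Lib.Lead.commutator_le_frattini_and_pow_mem (G := ↥P) hP
      have hpowΦ : ∀ x ∈ P, x ^ p ∈ (frattini ↥P).map P.subtype := by
        intro x hx
        exact ⟨⟨x, hx⟩ ^ p, hpow ⟨x, hx⟩, rfl⟩
      have hcommΦ : ∀ x ∈ P, ∀ y ∈ P, x⁻¹ * y⁻¹ * x * y ∈ (frattini ↥P).map P.subtype := by
        intro x hx y hy
        refine ⟨⁅(⟨x, hx⟩ : ↥P)⁻¹, (⟨y, hy⟩ : ↥P)⁻¹⁆, hcomm ?_, ?_⟩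
        · rw [commutator_def]
          exact Subgroup.commutator_mem_commutator (Subgroup.mem_top _) (Subgroup.mem_top _)
        · simp [commutatorElement_def]
      rw [Subgroup.commutator_le]
      intro x hx a ha
      -- t = [x, a]
      have hy' : a * x⁻¹ * a⁻¹ ∈ P := by
        have := (Subgroup.mem_normalizer_iff.mp (hAP ha)) x⁻¹
        exact this.mp (P.inv_mem hx)
      have ht : ⁅x, a⁆ ∈ P := by
        have e : ⁅x, a⁆ = x * (a * x⁻¹ * a⁻¹) := by rw [commutatorElement_def]; group
        rw [e]; exact P.mul_mem hx hy'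
      have hy'eq : a * x⁻¹ * a⁻¹ = x⁻¹ * ⁅x, a⁆ := by rw [commutatorElement_def]; group
      generalize ⁅x, a⁆ = t at ht hy'eq ⊢
      have hxi : x⁻¹ ∈ P := P.inv_mem hx
      -- c = t⁻¹ x t x⁻¹
      have hc : t⁻¹ * x⁻¹⁻¹ * t * x⁻¹ ∈ (frattini ↥P).map P.subtype := hcommΦ t ht x⁻¹ hxi
      have hrel : t * x⁻¹ = x⁻¹ * t * (t⁻¹ * x⁻¹⁻¹ * t * x⁻¹) := by group
      generalize t⁻¹ * x⁻¹⁻¹ * t * x⁻¹ = c at hc hrel
      have hcu : Commute c x⁻¹ := hΦZ c hc _ hxi
      have hct : Commute c t := hΦZ c hc _ ht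
      have hcp : c ^ p = 1 := by
        have h4 := pow_mul_of_central_comm x⁻¹ t c hrel hct p
        rw [hΦZ _ (hpowΦ t ht) _ hxi] at h4
        have h5 : x⁻¹ * t ^ p * 1 = x⁻¹ * t ^ p * c ^ p := by rw [mul_one]; exact h4
        exact (mul_left_cancel h5).symm
      have hform := mul_pow_of_central_comm x⁻¹ t c hrel hcu hct p
      -- (x⁻¹ t)^p = a x⁻ᵖ a⁻¹ = x⁻ᵖ
      have hconj : (x⁻¹ * t) ^ p = x⁻¹ ^ p := by
        rw [← hy'eq, conj_pow]
        have h6 := (Subgroup.mem_centralizer_iff.mp (hΦcent ha)) _ (hpowΦ _ hxi)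
        rw [← h6, mul_inv_cancel_right]
      rw [hconj] at hform
      have hform' : t ^ p * c ^ (p.choose 2) = 1 := by
        have h7 : x⁻¹ ^ p * 1 = x⁻¹ ^ p * (t ^ p * c ^ (p.choose 2)) := by
          rw [mul_one, ← mul_assoc, ← hform]
        exact (mul_left_cancel h7).symm
      have htfix : ∀ a' ∈ A, a' * t * a'⁻¹ = t := by
        apply hΩ t ht
        by_cases hp2 : p = 2
        · right
          refine ⟨hp2, ?_⟩
          subst hp2
          have h8 : Nat.choose 2 2 = 1 := by decide
          rw [h8, pow_one] at hform'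
          have h9 : t ^ 2 = c⁻¹ := eq_inv_of_mul_eq_one_left hform'
          have : t ^ 4 = (t ^ 2) ^ 2 := by rw [← pow_mul]
          rw [this, h9, inv_pow, hcp, inv_one]
        · left
          have h8 : p ∣ p.choose 2 := hp.dvd_choose_self (by norm_num) (by
            have := hp.two_le; omega)
          obtain ⟨e, he⟩ := h8
          rw [he, pow_mul, hcp, one_pow, mul_one] at hform'
          exact hform'
      rw [Subgroup.mem_centralizer_iff]
      intro a' ha'
      have := htfix a' ha'
      calc a' * t = (a' * t * a'⁻¹) * a' := by group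
        _ = t * a' := by rw [this]
    · have hD := hprop _ (lt_of_le_of_ne hDP hlt) hAD
      intro x hx
      rw [Subgroup.mem_centralizer_iff]
      intro a ha
      exact ((Subgroup.mem_centralizer_iff.mp (hD ha)) x hx).symm

/-- Coprime automorphisms of a `p`-group that centralize all elements of order `p`
(and of order `4` when `p = 2`) are trivial. -/
theorem centralizes_of_centralizes_omega {X : Type*} [Group X] [Finite X] {p : ℕ}
    [Fact p.Prime] (A P : Subgroup X) (hA : (Nat.card A).Coprime p) (hP : IsPGroup p P)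
    (hAP : A ≤ Subgroup.normalizer (P : Set X))
    (hΩ : ∀ x ∈ P, (x ^ p = 1 ∨ (p = 2 ∧ x ^ 4 = 1)) → ∀ a ∈ A, a * x * a⁻¹ = x) :
    A ≤ Subgroup.centralizer (P : Set X) :=
  centralizes_of_centralizes_omega_aux A hA _ P rfl hP hAP hΩ

end Cfsg.Agent.Lib.Helper6
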