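import Mathlib
import Cfsg.Prelude.Def_Transfer
import Cfsg.Prelude.Def_PLocal
import Cfsg.Agent.Lib.Helper6.Comm
import Cfsg.Agent.Lib.Helper6.RealElt
import Cfsg.Agent.Lib.Helper6.NormGrow
import Cfsg.Agent.Lib.Helper6.CycSylow
import Cfsg.Agent.Lib.Helper1.ZJ7
import Cfsg.Agent.Lib.Lead.CoprimeSylow
import Cfsg.Agent.S0653
import Cfsg.Agent.S0659
import Cfsg.Agent.S2836

set_option autoImplicit false

namespace Cfsg.Agent.Lib.Helper6

universe u

/-- a finite nilpotent group has a normal `p`-complement -/
theorem npc_of_nilpotent {X : Type u} [Group X] [Finite X] (h : Group.IsNilpotent X) (p : ℕ)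
    [hp : Fact p.Prime] : Cfsg.HasNormalPComplement p X := by
  classical
  have htfae := Group.isNilpotent_of_finite_tfae (G := X)
  have h03 : Group.IsNilpotent X ↔ ∀ (p : ℕ) (_hp : Fact p.Prime) (P : Sylow p X),
      (↑P : Subgroup X).Normal := htfae.out 0 3
  have h01 : Group.IsNilpotent X ↔ NormalizerCondition X := htfae.out 0 1
  have hsyl : ∀ (P : Sylow p X), (P : Subgroup X).Normal := fun P => h03.mp h p hp P
  have hNC : NormalizerCondition X := h01.mp h
  let P : Sylow p X := default
  haveI := hsyl P
  obtain ⟨K, hK⟩ := Subgroup.exists_right_complement'_of_coprime (N := (P : Subgroup X))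
    P.card_coprime_index
  have hKidx : K.index = Nat.card (P : Subgroup X) := hK.index_eq_card
  obtain ⟨n, hn⟩ := IsPGroup.iff_card.mp P.2
  have hKcard : Nat.card K = (P : Subgroup X).index := (hK.symm.index_eq_card).symm
  have hKcop : (Nat.card K).Coprime p := by
    rw [hKcard]
    exact ((Nat.Prime.coprime_iff_not_dvd hp.out).mpr P.not_dvd_index).symm
  have hKn : K.Normal := by
    by_contra hn'
    have hlt : Subgroup.normalizer (K : Set X) < ⊤ :=
      lt_top_iff_ne_top.mpr (fun h => hn' (Subgroup.normalizer_eq_top_iff.mp h))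
    obtain ⟨g, hgNN, hgN⟩ := SetLike.exists_of_lt (hNC _ hlt)
    apply hgN
    apply mem_normalizer_of_conj_mem
    intro k hk
    have hyL : g * k * g⁻¹ ∈ Subgroup.normalizer (K : Set X) :=
      (Subgroup.mem_normalizer_iff.mp hgNN k).mp (Subgroup.le_normalizer hk)
    have hrel : K.relIndex (Subgroup.normalizer (K : Set X)) ∣ p ^ n := by
      rw [← hn, ← hKidx]
      exact Subgroup.relIndex_dvd_index_of_le Subgroup.le_normalizer
    obtain ⟨j, -, hj⟩ := (Nat.dvd_prime_pow hp.out).mp hrel
    have h1 := Subgroup.pow_index_mem (K.subgroupOf (Subgroup.normalizer (K : Set X)))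
      (⟨g * k * g⁻¹, hyL⟩ : ↥(Subgroup.normalizer (K : Set X)))
    have h2 : (K.subgroupOf (Subgroup.normalizer (K : Set X))).index = p ^ j := hj
    rw [h2] at h1
    have h3 : (g * k * g⁻¹) ^ (p ^ j) ∈ K := by
      have := Subgroup.mem_subgroupOf.mp h1
      simpa using this
    have hord : (orderOf (g * k * g⁻¹)).Coprime p := by
      rw [orderOf_conj_eq]
      exact Nat.Coprime.coprime_dvd_left (Subgroup.orderOf_dvd_natCard K hk) hKcop
    obtain ⟨m, hm⟩ := exists_pow_eq_self_of_coprime (n := p ^ j) (x := g * k * g⁻¹)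
      (Nat.Coprime.pow_left j hord.symm)
    rw [← hm]
    exact pow_mem h3 m
  exact ⟨P, K, hKn, hK.symm⟩

theorem solvable_of_nilpotent_odd_coatom_aux (n : ℕ) :
    ∀ (G : Type u) [Group G] [Finite G] (M : Subgroup G),
    IsCoatom M → Group.IsNilpotent M → Odd (Nat.card M) → Nat.card G = n →
    Group.IsSolvable G := by
  induction n using Nat.strong_induction_on with
  | _ n ih =>
  intro G _ _ M hmax hnil hodd hn
  classical
  haveI := hnil
  by_cases hcore : ∃ N : Subgroup G, N.Normal ∧ N ≠ ⊥ ∧ N ≤ M
  · obtain ⟨N, hNn, hN1, hNM⟩ := hcore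
    haveI := hNn
    have hcardlt : Nat.card (G ⧸ N) < n := by
      rw [← hn, Subgroup.card_eq_card_quotient_mul_card_subgroup N]
      have h1 : 1 < Nat.card N := N.one_lt_card_iff_ne_bot.mpr hN1
      have h2 : 0 < Nat.card (G ⧸ N) := Nat.card_pos
      nlinarith
    have hsurj : Function.Surjective ((QuotientGroup.mk' N).subgroupMap M) :=
      (QuotientGroup.mk' N).subgroupMap_surjective M
    haveI hsolvQ : Group.IsSolvable (G ⧸ N) := ih _ hcardlt (G ⧸ N) (M.map (QuotientGroup.mk' N))
      (Cfsg.Agent.S2836.coatom_map_mk hmax hNM)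
      (Group.nilpotent_of_surjective _ hsurj)
      (Odd.of_dvd_nat hodd (Subgroup.card_dvd_of_surjective _ hsurj)) rfl
    haveI hsolvN : Group.IsSolvable N :=
      Group.isSolvable_of_isSolvable_injective (Subgroup.inclusion_injective hNM)
    exact Group.isSolvable_of_ker_le_range N.subtype (QuotientGroup.mk' N)
      (by rw [QuotientGroup.ker_mk', Subgroup.range_subtype])
  · push Not at hcore
    have hnormal_contra : ∀ Z : Subgroup G, Z ≠ ⊥ → Z ≤ M →
        M ≤ Subgroup.normalizer (Z : Set G) → Subgroup.normalizer (Z : Set G) = M := by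
      intro Z hZ1 hZM hMZ
      by_contra hne
      have hlt : M < Subgroup.normalizer (Z : Set G) := lt_of_le_of_ne hMZ (Ne.symm hne)
      have htop := hmax.2 _ hlt
      exact hcore Z (Subgroup.normalizer_eq_top_iff.mp htop) hZ1 hZM
    have hkey : ∀ p : ℕ, ∃ Kp : Subgroup G, Kp.Normal ∧ (p.Prime → p ∣ Nat.card M →
        (Nat.card Kp).Coprime p ∧ Kp.index = p ^ (Nat.card M).factorization p) := by
      intro p
      by_cases hp : p.Prime ∧ p ∣ Nat.card M
      · obtain ⟨hp, hpM⟩ := hp
        haveI : Fact p.Prime := ⟨hp⟩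
        let P₀ : Sylow p ↥M := default
        have htfae := Group.isNilpotent_of_finite_tfae (G := ↥M)
        have h03 : Group.IsNilpotent ↥M ↔ ∀ (p : ℕ) (_hp : Fact p.Prime) (P : Sylow p ↥M),
            (↑P : Subgroup ↥M).Normal := htfae.out 0 3
        have hP₀n : (P₀ : Subgroup ↥M).Normal := h03.mp hnil p ⟨hp⟩ P₀
        have hP₀ne : (P₀ : Subgroup ↥M) ≠ ⊥ := P₀.ne_bot_of_dvd_card hpM
        obtain ⟨P, hPdef⟩ : ∃ P : Subgroup G, P = (P₀ : Subgroup ↥M).map M.subtype := ⟨_, rfl⟩
        have hPM : P ≤ M := by rw [hPdef]; exact Subgroup.map_subtype_le _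
        have hPne : P ≠ ⊥ := by
          intro h
          rw [hPdef] at h
          exact hP₀ne ((Subgroup.map_eq_bot_iff_of_injective _ M.subtype_injective).mp h)
        have hPpg : IsPGroup p P := by rw [hPdef]; exact P₀.2.map M.subtype
        have hMN : M ≤ Subgroup.normalizer (P : Set G) := by
          intro m hm
          apply mem_normalizer_of_conj_mem
          intro x hx
          rw [hPdef] at hx ⊢
          obtain ⟨y, hy, rfl⟩ := hx
          exact ⟨⟨m, hm⟩ * y * ⟨m, hm⟩⁻¹, hP₀n.conj_mem y hy ⟨m, hm⟩, rfl⟩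
        have hNP := hnormal_contra P hPne hPM hMN
        obtain ⟨S, hS⟩ := hPpg.exists_le_sylow
        have hSP : (S : Subgroup G) = P := by
          by_contra hne
          have hlt : P < (S : Subgroup G) := lt_of_le_of_ne hS (Ne.symm hne)
          obtain ⟨x, hxS, hxN, hxP⟩ := exists_mem_normalizer_not_mem S.2 hlt
          rw [hNP] at hxN
          apply hxP
          obtain ⟨k, hk⟩ := (IsPGroup.iff_orderOf.mp S.2) ⟨x, hxS⟩
          have hord : orderOf (⟨x, hxN⟩ : ↥M) = p ^ k := by
            rw [Subgroup.orderOf_mk, ← Subgroup.orderOf_mk x hxS]; exact hk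
          have h1 := mem_sylow_of_mem_normalizer P₀ hord (by
            rw [Subgroup.normalizer_eq_top_iff.mpr hP₀n]; exact Subgroup.mem_top _)
          rw [hPdef]
          exact ⟨⟨x, hxN⟩, h1, rfl⟩
        have hZeq := Cfsg.Agent.S0653.centerThompsonAOf_eq_zjW (S : Subgroup G)
        have hZle : Cfsg.centerThompsonAOf (S : Subgroup G) ≤ M := by
          rw [hZeq]
          exact (Cfsg.Agent.Lib.Helper1.zjW_le _ Cfsg.Agent.Lib.Helper1.goodAb_bot _).trans
            (hSP ▸ hPM)
        have hZne : Cfsg.centerThompsonAOf (S : Subgroup G) ≠ ⊥ := by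
          rw [hZeq]
          exact Cfsg.Agent.Lib.Helper1.zjW_goodAb_ne_bot (S : Subgroup G) S.2 (hSP ▸ hPne)
        have hMZ : M ≤ Subgroup.normalizer (Cfsg.centerThompsonAOf (S : Subgroup G) : Set G) := by
          rw [hZeq]
          refine le_trans ?_ (Cfsg.Agent.Lib.Helper1.normalizer_le_normalizer_zjW _
            Cfsg.Agent.Lib.Helper1.goodAb_equiv (S : Subgroup G))
          rw [hSP]; exact hMN
        have hNZ := hnormal_contra _ hZne hZle hMZ
        have hp2 : p ≠ 2 := by
          rintro rfl
          rw [Nat.odd_iff] at hodd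
          omega
        have hnpc : Cfsg.HasNormalPComplement p
            ↥(Subgroup.normalizer (Cfsg.centerThompsonAOf (S : Subgroup G) : Set G)) := by
          rw [hNZ]
          exact npc_of_nilpotent hnil p
        obtain ⟨S', Kp, hKn, hc⟩ := Cfsg.Agent.S0659.result hp2 S hnpc
        refine ⟨Kp, hKn, fun _ _ => ⟨?_, ?_⟩⟩
        · have h1 : Nat.card Kp = (S' : Subgroup G).index := (hc.index_eq_card).symm
          rw [h1]
          exact ((Nat.Prime.coprime_iff_not_dvd hp).mpr S'.not_dvd_index).symm
        · have e1 : Nat.card (S' : Subgroup G) = Nat.card (S : Subgroup G) := by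
            rw [Sylow.card_eq_multiplicity, Sylow.card_eq_multiplicity]
          have e2 : Nat.card (S : Subgroup G) = Nat.card (P₀ : Subgroup ↥M) := by
            rw [hSP, hPdef]; exact Subgroup.card_map_of_injective M.subtype_injective
          rw [hc.symm.index_eq_card, e1, e2, Sylow.card_eq_multiplicity]
      · exact ⟨⊤, inferInstance, fun h1 h2 => absurd ⟨h1, h2⟩ hp⟩
    choose Kf hKfn hKf using hkey
    obtain ⟨K, hKdef⟩ : ∃ K : Subgroup G, K = ⨅ p : ↥(Nat.card M).primeFactors, Kf p := ⟨_, rfl⟩
    haveI hKn : K.Normal := by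
      rw [hKdef]; exact Subgroup.normal_iInf_normal (fun p => hKfn p)
    have hMpos : Nat.card M ≠ 0 := Nat.card_pos.ne'
    have hKle : ∀ p : ℕ, p.Prime → p ∣ Nat.card M → K ≤ Kf p := by
      intro p hp hpM
      rw [hKdef]
      exact iInf_le (fun p : ↥(Nat.card M).primeFactors => Kf p)
        ⟨p, Nat.mem_primeFactors.mpr ⟨hp, hpM, hMpos⟩⟩
    have hcop : (Nat.card M).Coprime (Nat.card K) := by
      apply Nat.coprime_of_dvd
      intro p hp hpM hpK
      have h1 := (hKf p hp hpM).1
      have h2 : p ∣ Nat.card (Kf p) := dvd_trans hpK (Subgroup.card_dvd_of_le (hKle p hp hpM))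
      exact hp.one_lt.ne' (Nat.Coprime.eq_one_of_dvd h1.symm h2)
    have hidx : K.index ≤ Nat.card M := by
      calc K.index ≤ ∏ p : ↥(Nat.card M).primeFactors, (Kf p).index := by
            rw [hKdef]; exact Subgroup.index_iInf_le _
        _ = ∏ p ∈ (Nat.card M).primeFactors, (Kf p).index :=
            Finset.prod_coe_sort _ (fun p => (Kf p).index)
        _ = ∏ p ∈ (Nat.card M).primeFactors, p ^ (Nat.card M).factorization p :=
            Finset.prod_congr rfl (fun p hp => (hKf p (Nat.prime_of_mem_primeFactors hp)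
              (Nat.dvd_of_mem_primeFactors hp)).2)
        _ = Nat.card M := by
            have h1 := Nat.prod_factorization_pow_eq_self hMpos
            rw [Finsupp.prod, Nat.support_factorization] at h1
            exact h1
    have hinf : K ⊓ M = ⊥ := disjoint_iff.mp (Subgroup.disjoint_of_coprime_natCard hcop.symm)
    let f : ↥M →* G ⧸ K := (QuotientGroup.mk' K).comp M.subtype
    have hfinj : Function.Injective f := by
      rw [← MonoidHom.ker_eq_bot_iff, eq_bot_iff]
      intro x hx
      have h1 : (x : G) ∈ K := by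
        have h0 : (QuotientGroup.mk' K) (x : G) = 1 := hx
        exact (QuotientGroup.eq_one_iff _).mp h0
      have h2 : (x : G) ∈ K ⊓ M := ⟨h1, x.2⟩
      rw [hinf] at h2
      exact Subgroup.mem_bot.mpr (Subtype.ext (Subgroup.mem_bot.mp h2))
    have hfsurj : Function.Surjective f :=
      (hfinj.bijective_of_nat_card_le (by rw [← Subgroup.index_eq_card]; exact hidx)).2
    haveI : Group.IsSolvable (G ⧸ K) := Group.isSolvable_of_surjective hfsurj
    haveI hKsolv : Group.IsSolvable K := by
      by_cases hK1 : Nat.card K = 1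
      · haveI : Subsingleton K := (Nat.card_eq_one_iff_unique.mp hK1).1
        infer_instance
      · obtain ⟨q, hq, hqK⟩ := Nat.exists_prime_and_dvd hK1
        haveI : Fact q.Prime := ⟨hq⟩
        obtain ⟨Q, hQ⟩ := Cfsg.Agent.Lib.Lead.exists_invariant_sylow M K
          (by rw [Subgroup.normalizer_eq_top_iff.mpr hKn]; exact le_top) hcop
          (Or.inl inferInstance) q
        obtain ⟨Q', hQ'⟩ : ∃ Q' : Subgroup G, Q' = (Q : Subgroup ↥K).map K.subtype := ⟨_, rfl⟩
        rw [← hQ'] at hQ
        have hQ'K : Q' ≤ K := by rw [hQ']; exact Subgroup.map_subtype_le _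
        have hQ'ne : Q' ≠ ⊥ := by
          intro h
          rw [hQ'] at h
          exact Q.ne_bot_of_dvd_card hqK
            ((Subgroup.map_eq_bot_iff_of_injective _ K.subtype_injective).mp h)
        have hnotle : ¬ Q' ≤ M := by
          intro hle
          apply hQ'ne
          rw [eq_bot_iff, ← hinf]
          exact le_inf hQ'K hle
        have htop : Q' ⊔ M = ⊤ := hmax.2 _ (lt_of_le_of_ne le_sup_right (by
          intro h
          apply hnotle
          rw [h]
          exact le_sup_left))
        have hQ'n : Q'.Normal := by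
          rw [← Subgroup.normalizer_eq_top_iff, eq_top_iff, ← htop]
          exact sup_le Subgroup.le_normalizer hQ
        have hKQ : K ≤ Q' := by
          intro k hk
          have hmem : k ∈ Q' ⊔ M := by rw [htop]; exact Subgroup.mem_top k
          rw [← SetLike.mem_coe, Subgroup.normal_mul] at hmem
          obtain ⟨a, ha, m, hm, rfl⟩ := Set.mem_mul.mp hmem
          have hmK : m ∈ K := by
            have e : m = a⁻¹ * (a * m) := by group
            rw [e]; exact K.mul_mem (K.inv_mem (hQ'K ha)) hk
          have hm1 : m = 1 := by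
            have h3 : m ∈ K ⊓ M := ⟨hmK, hm⟩
            rw [hinf] at h3; exact Subgroup.mem_bot.mp h3
          rw [hm1, mul_one]; exact ha
        have hQtop : (Q : Subgroup ↥K) = ⊤ := by
          rw [eq_top_iff]
          intro x _
          have h3 := hKQ x.2
          rw [hQ'] at h3
          obtain ⟨y, hy, hyx⟩ := h3
          have e : y = x := Subtype.ext hyx
          rw [← e]; exact hy
        have hpg := Q.2
        rw [hQtop] at hpg
        have hKpg : IsPGroup q K := hpg.of_equiv Subgroup.topEquiv
        haveI := hKpg.isNilpotent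
        infer_instance
    exact Group.isSolvable_of_ker_le_range K.subtype (QuotientGroup.mk' K)
      (by rw [QuotientGroup.ker_mk', Subgroup.range_subtype])

/-- Thompson: a finite group with a nilpotent maximal subgroup of odd order is solvable -/
theorem solvable_of_nilpotent_odd_coatom {G : Type u} [Group G] [Finite G] (M : Subgroup G)
    (hmax : IsCoatom M) (hnil : Group.IsNilpotent M) (hodd : Odd (Nat.card M)) :
    Group.IsSolvable G :=
  solvable_of_nilpotent_odd_coatom_aux _ G M hmax hnil hodd rfl

end Cfsg.Agent.Lib.Helper6
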