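import Mathlib
import Cfsg.Agent.Lib.Helper6.Conj
import Cfsg.Agent.Lib.Helper6.Comm

set_option autoImplicit false

namespace Cfsg.Agent.Lib.Helper6

universe u

/-- Wielandt: a minimal normal subgroup normalizes every subnormal subgroup (induction form). -/
theorem wielandt_aux : ∀ (n : ℕ) (G : Type u) [Group G] [Finite G], Nat.card G = n →
    ∀ (H A : Subgroup G), H.IsSubnormal → A.Normal →
    (∀ B : Subgroup G, B.Normal → B ≤ A → B = ⊥ ∨ B = A) →
    A ≤ Subgroup.normalizer (H : Set G) := by
  intro n
  induction n using Nat.strong_induction_on with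
  | _ n ih =>
    intro G _ _ hn H A hH hA hmin
    rcases eq_or_ne H ⊤ with rfl | hHtop
    · intro a _
      apply mem_normalizer_of_conj_mem
      intro d _; trivial
    obtain ⟨N, hNn, hHN, hNlt⟩ := hH.exists_normal_and_le_and_lt_top_of_ne hHtop
    rcases eq_or_ne (A ⊓ N) ⊥ with hAN | hAN
    · intro a ha
      apply mem_normalizer_of_conj_mem
      intro h hh
      have := Subgroup.commute_of_normal_of_disjoint A N hA hNn (disjoint_iff.mpr hAN) a h ha
        (hHN hh)
      rw [this.eq, mul_inv_cancel_right]
      exact hh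
    · have hAleN : A ≤ N := by
        have hn' : (A ⊓ N).Normal := inferInstance
        rcases hmin (A ⊓ N) hn' inf_le_left with h | h
        · exact absurd h hAN
        · rw [← h]; exact inf_le_right
      have hAne : A ≠ ⊥ := by rintro rfl; exact hAN (by simp)
      have hcardN : Nat.card N < n := by
        rw [← hn]
        have h1 : Nat.card N ∣ Nat.card G := Subgroup.card_subgroup_dvd_card N
        have h2 : Nat.card N ≠ Nat.card G := by
          intro h
          exact hNlt.ne (Subgroup.eq_top_of_card_eq N h)
        exact lt_of_le_of_ne (Nat.le_of_dvd Nat.card_pos h1) h2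
      have hrel : ∀ (H' B : Subgroup G), (H'.subgroupOf N).IsSubnormal → H' ≤ N → B ≤ N →
          N ≤ Subgroup.normalizer (B : Set G) →
          (∀ C : Subgroup G, C ≤ B → N ≤ Subgroup.normalizer (C : Set G) → C = ⊥ ∨ C = B) →
          B ≤ Subgroup.normalizer (H' : Set G) := by
        intro H' B hH' hH'N hBN hBn hBmin
        have key := ih (Nat.card N) hcardN N rfl (H'.subgroupOf N) (B.subgroupOf N) hH'
          ((Subgroup.normal_subgroupOf_iff_le_normalizer hBN).mpr hBn) ?_
        · intro b hb
          apply mem_normalizer_of_conj_mem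
          intro h hh
          have h1 := key (show (⟨b, hBN hb⟩ : N) ∈ B.subgroupOf N from hb)
          rw [Subgroup.mem_normalizer_iff] at h1
          exact (h1 ⟨h, hH'N hh⟩).mp hh
        · intro C' hC'n hC'le
          have hCle : C'.map N.subtype ≤ B := by
            rintro _ ⟨c, hc, rfl⟩
            exact hC'le hc
          have hCn : N ≤ Subgroup.normalizer ((C'.map N.subtype : Subgroup G) : Set G) := by
            intro x hx
            apply mem_normalizer_of_conj_mem
            rintro _ ⟨c, hc, rfl⟩
            exact ⟨⟨x, hx⟩ * c * ⟨x, hx⟩⁻¹, hC'n.conj_mem c hc _, rfl⟩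
          rcases hBmin _ hCle hCn with h | h
          · left
            rwa [Subgroup.map_eq_bot_iff_of_injective _ N.subtype_injective] at h
          · right
            apply Subgroup.map_injective N.subtype_injective
            rw [h, Subgroup.subgroupOf_map_subtype, inf_eq_left.mpr hBN]
      -- a minimal N-invariant subgroup of A
      obtain ⟨B, hB, hBmin⟩ := WellFounded.has_min (wellFounded_lt (α := Subgroup G))
        {B : Subgroup G | B ≤ A ∧ N ≤ Subgroup.normalizer (B : Set G) ∧ B ≠ ⊥}
        ⟨A, le_rfl, by rw [Subgroup.normalizer_eq_top_iff.mpr hA]; exact le_top, hAne⟩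
      obtain ⟨hBA, hBn, hBne⟩ := hB
      have hBmin' : ∀ C : Subgroup G, C ≤ B → N ≤ Subgroup.normalizer (C : Set G) →
          C = ⊥ ∨ C = B := by
        intro C hCB hCn
        by_cases hC : C = ⊥
        · exact Or.inl hC
        · right
          by_contra hne
          exact hBmin C ⟨hCB.trans hBA, hCn, hC⟩ (lt_of_le_of_ne hCB hne)
      have hconj : ∀ g : G, B.map (MulAut.conj g).toMonoidHom ≤ Subgroup.normalizer (H : Set G) := by
        intro g
        have hsub : (H.map (MulAut.conj g⁻¹).toMonoidHom).IsSubnormal :=
          hH.map (f := (MulAut.conj g⁻¹).toMonoidHom) (MulAut.conj g⁻¹).surjective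
        have hle : H.map (MulAut.conj g⁻¹).toMonoidHom ≤ N := by
          intro x hx
          rw [mem_cj, inv_inv] at hx
          have := hNn.conj_mem _ (hHN hx) g⁻¹
          simpa [mul_assoc] using this
        have h1 := hrel _ B hsub.subgroupOf hle (hBA.trans hAleN) hBn hBmin'
        intro x hx
        rw [mem_cj] at hx
        have h2 := h1 hx
        apply mem_normalizer_of_conj_mem
        intro h hh
        have h3 : g⁻¹ * h * g ∈ H.map (MulAut.conj g⁻¹).toMonoidHom := by
          rw [mem_cj, inv_inv]
          have : g * (g⁻¹ * h * g) * g⁻¹ = h := by group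
          rw [this]; exact hh
        rw [Subgroup.mem_normalizer_iff] at h2
        have h4 := (h2 _).mp h3
        rw [mem_cj, inv_inv] at h4
        have : g * (g⁻¹ * x * g * (g⁻¹ * h * g) * (g⁻¹ * x * g)⁻¹) * g⁻¹ = x * h * x⁻¹ := by group
        rw [this] at h4
        exact h4
      have hJA : (⨆ g : G, B.map (MulAut.conj g).toMonoidHom) ≤ A := by
        apply iSup_le
        intro g x hx
        rw [mem_cj] at hx
        have := hA.conj_mem _ (hBA hx) g
        simpa [mul_assoc] using this
      have hJn : (⨆ g : G, B.map (MulAut.conj g).toMonoidHom).Normal := by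
        constructor
        intro x hx g₀
        have hle : (⨆ g : G, B.map (MulAut.conj g).toMonoidHom).map (MulAut.conj g₀).toMonoidHom
            ≤ ⨆ g : G, B.map (MulAut.conj g).toMonoidHom := by
          rw [Subgroup.map_iSup]
          apply iSup_le
          intro g
          rw [← cj_mul]
          exact le_iSup (fun g => B.map (MulAut.conj g).toMonoidHom) (g₀ * g)
        exact hle ⟨x, hx, by simp [MulAut.conj_apply]⟩
      have hBJ : B ≤ ⨆ g : G, B.map (MulAut.conj g).toMonoidHom := by
        have := le_iSup (fun g => B.map (MulAut.conj g).toMonoidHom) (1 : G)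
        have e : B.map (MulAut.conj (1 : G)).toMonoidHom = B := cj_one B
        exact le_of_eq_of_le e.symm this
      rcases hmin _ hJn hJA with h | h
      · exact absurd (le_bot_iff.mp (h ▸ hBJ)) hBne
      · rw [← h]
        exact iSup_le hconj

/-- Wielandt: a minimal normal subgroup normalizes every subnormal subgroup. -/
theorem wielandt_min_normal {G : Type*} [Group G] [Finite G] (H A : Subgroup G)
    (hH : H.IsSubnormal) (hA : A.Normal)
    (hmin : ∀ B : Subgroup G, B.Normal → B ≤ A → B = ⊥ ∨ B = A) :
    A ≤ Subgroup.normalizer (H : Set G) :=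
  wielandt_aux _ G rfl H A hH hA hmin

/-- Every nontrivial normal subgroup of a finite group contains a minimal normal subgroup. -/
theorem exists_min_normal_le {G : Type*} [Group G] [Finite G] (K : Subgroup G) (hK : K.Normal)
    (hne : K ≠ ⊥) : ∃ A : Subgroup G, A.Normal ∧ A ≠ ⊥ ∧ A ≤ K ∧
      ∀ B : Subgroup G, B.Normal → B ≤ A → B = ⊥ ∨ B = A := by
  obtain ⟨A, hA, hAmin⟩ := WellFounded.has_min (wellFounded_lt (α := Subgroup G))
    {B : Subgroup G | B.Normal ∧ B ≠ ⊥ ∧ B ≤ K} ⟨K, hK, hne, le_rfl⟩
  obtain ⟨hAn, hAne, hAK⟩ := hA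
  refine ⟨A, hAn, hAne, hAK, ?_⟩
  intro B hBn hBA
  by_cases hB : B = ⊥
  · exact Or.inl hB
  · right
    by_contra hne'
    exact hAmin B ⟨hBn, hB, hBA.trans hAK⟩ (lt_of_le_of_ne hBA hne')

/-- Every subgroup of a finite nilpotent group is subnormal. -/
theorem isSubnormal_of_isNilpotent {G : Type*} [Group G] [Finite G] [Group.IsNilpotent G] :
    ∀ (k : ℕ) (D : Subgroup G), Nat.card G - Nat.card D = k → D.IsSubnormal := by
  intro k
  induction k using Nat.strong_induction_on with
  | _ k ih =>
    intro D hk
    rcases eq_or_ne D ⊤ with rfl | hD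
    · exact Subgroup.IsSubnormal.top
    · have hnc := Group.normalizerCondition_of_isNilpotent (G := G) D (lt_top_iff_ne_top.mpr hD)
      have hlt : Nat.card D < Nat.card (Subgroup.normalizer (D : Set G)) := by
        have h1 : Nat.card D ∣ Nat.card (Subgroup.normalizer (D : Set G)) :=
          Subgroup.card_dvd_of_le hnc.le
        have h2 : Nat.card D ≠ Nat.card (Subgroup.normalizer (D : Set G)) := by
          intro h
          exact hnc.ne (Subgroup.eq_of_le_of_card_ge hnc.le (le_of_eq h.symm))
        exact lt_of_le_of_ne (Nat.le_of_dvd Nat.card_pos h1) h2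
      have hle : Nat.card (Subgroup.normalizer (D : Set G)) ≤ Nat.card G :=
        Nat.le_of_dvd Nat.card_pos (Subgroup.card_subgroup_dvd_card _)
      have hsub := ih (Nat.card G - Nat.card (Subgroup.normalizer (D : Set G))) (by omega) _ rfl
      exact Subgroup.IsSubnormal.step D _ hnc.le hsub
        ((Subgroup.normal_subgroupOf_iff_le_normalizer hnc.le).mpr le_rfl)

end Cfsg.Agent.Lib.Helper6
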