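import Mathlib
import Cfsg.Agent.Lib.Lead.Char15

set_option autoImplicit false

namespace Cfsg.Agent.Lib.Helper6

open Cfsg.Agent.Lib

/-- a generalized character is an integer combination of irreducible characters -/
theorem gen_decomp {G : Type*} [Group G] [Finite G] [Fintype (Cfsg.IrrCharacter G)] {θ : G → ℂ}
    (hθ : Cfsg.IsGeneralizedCharacter G θ) :
    ∃ a : Cfsg.IrrCharacter G → ℤ, θ = ∑ φ, ((a φ : ℤ) : ℂ) • φ.1 := by
  obtain ⟨χ, ψ, hχ, hψ, rfl⟩ := hθ
  obtain ⟨m, hm⟩ := Lead.isCharacter_decomp hχ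
  obtain ⟨m', hm'⟩ := Lead.isCharacter_decomp hψ
  refine ⟨fun φ => (m φ : ℤ) - m' φ, ?_⟩
  rw [hm, hm', ← Finset.sum_sub_distrib]
  apply Finset.sum_congr rfl
  intro φ _
  rw [← sub_smul]
  congr 1
  push_cast; ring

/-- inner product of integer combinations of irreducible characters -/
theorem gen_inner {G : Type*} [Group G] [Fintype G] [Fintype (Cfsg.IrrCharacter G)]
    (a b : Cfsg.IrrCharacter G → ℤ) :
    Cfsg.classInner (∑ φ, ((a φ : ℤ) : ℂ) • φ.1) (∑ φ, ((b φ : ℤ) : ℂ) • φ.1)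
      = ((∑ φ, a φ * b φ : ℤ) : ℂ) := by
  rw [Lead.classInner_sum_left]
  push_cast
  apply Finset.sum_congr rfl
  intro φ _
  rw [Lead.classInner_smul_left]
  have h3 : Cfsg.classInner φ.1 (∑ φ', ((b φ' : ℤ) : ℂ) • φ'.1) = (b φ : ℂ) := by
    rw [← Lead.classInner_conj_symm, Lead.classInner_nat_comb, map_intCast]
  rw [h3]

/-- coefficient extraction -/
theorem gen_coeff {G : Type*} [Group G] [Fintype G] [Fintype (Cfsg.IrrCharacter G)]
    (a : Cfsg.IrrCharacter G → ℤ) (p : Cfsg.IrrCharacter G) :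
    Cfsg.classInner (∑ φ, ((a φ : ℤ) : ℂ) • φ.1) p.1 = (a p : ℂ) :=
  Lead.classInner_nat_comb (fun φ => ((a φ : ℤ) : ℂ)) p

/-- a generalized character of norm one is `±` an irreducible character -/
theorem gen_norm_one_cases {G : Type*} [Group G] [Fintype G] (θ : G → ℂ)
    (hθ : Cfsg.IsGeneralizedCharacter G θ) (h1 : Cfsg.classInner θ θ = 1) :
    ∃ p : Cfsg.IrrCharacter G, θ = p.1 ∨ θ = -p.1 := by
  classical
  haveI : Fintype (Cfsg.IrrCharacter G) := Fintype.ofFinite _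
  obtain ⟨a, rfl⟩ := gen_decomp hθ
  rw [gen_inner] at h1
  have hsum : ∑ φ, a φ * a φ = 1 := by exact_mod_cast h1
  have hex : ∃ p, a p ≠ 0 := by
    by_contra hcon
    push Not at hcon
    rw [Finset.sum_eq_zero (fun φ _ => by rw [hcon φ]; ring)] at hsum
    omega
  obtain ⟨p, hp⟩ := hex
  rw [← Finset.add_sum_erase _ _ (Finset.mem_univ p)] at hsum
  have hp1 : 1 ≤ a p * a p := by
    have h5 : 0 < a p * a p := mul_self_pos.mpr hp
    omega
  have hrest0 : ∑ φ ∈ Finset.univ.erase p, a φ * a φ = 0 := by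
    have h5 : 0 ≤ ∑ φ ∈ Finset.univ.erase p, a φ * a φ :=
      Finset.sum_nonneg (fun φ _ => mul_self_nonneg _)
    omega
  have hrest : ∀ φ, φ ≠ p → a φ = 0 := by
    intro φ hφ
    have h5 := (Finset.sum_eq_zero_iff_of_nonneg (fun φ _ => mul_self_nonneg _)).mp hrest0 φ
      (Finset.mem_erase.mpr ⟨hφ, Finset.mem_univ _⟩)
    exact mul_self_eq_zero.mp h5
  have hp2 : a p * a p = 1 := by omega
  have hexp : ∑ φ, ((a φ : ℤ) : ℂ) • φ.1 = ((a p : ℤ) : ℂ) • p.1 := by
    apply Finset.sum_eq_single p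
    · intro r _ hr
      rw [hrest r hr, Int.cast_zero, zero_smul]
    · intro h; exact absurd (Finset.mem_univ p) h
  have hp' : a p = 1 ∨ a p = -1 := by
    have h5 : (a p - 1) * (a p + 1) = 0 := by ring_nf; linarith
    rcases mul_eq_zero.mp h5 with h | h
    · left; linarith
    · right; linarith
  refine ⟨p, ?_⟩
  rcases hp' with h | h
  · left; rw [hexp, h]; simp
  · right; rw [hexp, h]; simp

/-- a generalized character of norm two vanishing at `1` is a difference of two distinct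
irreducible characters -/
theorem gen_norm_two_cases {G : Type*} [Group G] [Fintype G] (θ : G → ℂ)
    (hθ : Cfsg.IsGeneralizedCharacter G θ) (h2 : Cfsg.classInner θ θ = 2) (h0 : θ 1 = 0) :
    ∃ μ ν : Cfsg.IrrCharacter G, μ ≠ ν ∧ θ = μ.1 - ν.1 := by
  classical
  haveI : Fintype (Cfsg.IrrCharacter G) := Fintype.ofFinite _
  obtain ⟨a, rfl⟩ := gen_decomp hθ
  rw [gen_inner] at h2
  have hsum : ∑ φ, a φ * a φ = 2 := by exact_mod_cast h2
  have hex : ∃ p, a p ≠ 0 := by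
    by_contra hcon
    push Not at hcon
    rw [Finset.sum_eq_zero (fun φ _ => by rw [hcon φ]; ring)] at hsum
    omega
  obtain ⟨p, hp⟩ := hex
  rw [← Finset.add_sum_erase _ _ (Finset.mem_univ p)] at hsum
  have hnn : 0 ≤ ∑ φ ∈ Finset.univ.erase p, a φ * a φ :=
    Finset.sum_nonneg (fun φ _ => mul_self_nonneg _)
  have hpb : -1 ≤ a p ∧ a p ≤ 1 := by constructor <;> nlinarith
  have hp' : a p = 1 ∨ a p = -1 := by
    obtain ⟨h5, h6⟩ := hpb
    interval_cases (a p)
    · right; rfl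
    · exact absurd rfl hp
    · left; rfl
  have hp2 : a p * a p = 1 := by rcases hp' with h | h <;> rw [h] <;> norm_num
  have hrest1 : ∑ φ ∈ Finset.univ.erase p, a φ * a φ = 1 := by omega
  have hexq : ∃ q ∈ Finset.univ.erase p, a q ≠ 0 := by
    by_contra hcon
    push Not at hcon
    rw [Finset.sum_eq_zero (fun φ hφ => by rw [hcon φ hφ]; ring)] at hrest1
    omega
  obtain ⟨q, hq, hqne⟩ := hexq
  rw [← Finset.add_sum_erase _ _ hq] at hrest1
  have hnn2 : 0 ≤ ∑ φ ∈ (Finset.univ.erase p).erase q, a φ * a φ :=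
    Finset.sum_nonneg (fun φ _ => mul_self_nonneg _)
  have hqb : -1 ≤ a q ∧ a q ≤ 1 := by constructor <;> nlinarith
  have hq' : a q = 1 ∨ a q = -1 := by
    obtain ⟨h5, h6⟩ := hqb
    interval_cases (a q)
    · right; rfl
    · exact absurd rfl hqne
    · left; rfl
  have hq2 : a q * a q = 1 := by rcases hq' with h | h <;> rw [h] <;> norm_num
  have hrest0 : ∑ φ ∈ (Finset.univ.erase p).erase q, a φ * a φ = 0 := by omega
  have hqp : q ≠ p := (Finset.mem_erase.mp hq).1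
  have hrest : ∀ φ, φ ≠ p → φ ≠ q → a φ = 0 := by
    intro φ hφ hφq
    have h5 := (Finset.sum_eq_zero_iff_of_nonneg (fun φ _ => mul_self_nonneg _)).mp hrest0 φ
      (Finset.mem_erase.mpr ⟨hφq, Finset.mem_erase.mpr ⟨hφ, Finset.mem_univ _⟩⟩)
    exact mul_self_eq_zero.mp h5
  have hexp : ∑ φ, ((a φ : ℤ) : ℂ) • φ.1 = ((a p : ℤ) : ℂ) • p.1 + ((a q : ℤ) : ℂ) • q.1 := by
    rw [← Finset.add_sum_erase _ _ (Finset.mem_univ p), ← Finset.add_sum_erase _ _ hq]
    rw [Finset.sum_eq_zero, add_zero]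
    intro r hr
    have hr1 := (Finset.mem_erase.mp hr).1
    have hr2 := (Finset.mem_erase.mp (Finset.mem_erase.mp hr).2).1
    rw [hrest r hr2 hr1, Int.cast_zero, zero_smul]
  obtain ⟨dp, hdp, hdp'⟩ := Lead.irr_one_eq_nat p
  obtain ⟨dq, hdq, hdq'⟩ := Lead.irr_one_eq_nat q
  rw [hexp] at h0 ⊢
  simp only [Pi.add_apply, Pi.smul_apply, smul_eq_mul, hdp', hdq'] at h0
  have h0' : a p * (dp : ℤ) + a q * (dq : ℤ) = 0 := by exact_mod_cast h0
  rcases hp' with h | h <;> rcases hq' with h' | h'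
  · exfalso; rw [h, h'] at h0'; omega
  · refine ⟨p, q, hqp.symm, ?_⟩
    rw [h, h']; simp [sub_eq_add_neg]
  · refine ⟨q, p, hqp, ?_⟩
    rw [h, h']; simp [sub_eq_add_neg, add_comm]
  · exfalso; rw [h, h'] at h0'; omega

end Cfsg.Agent.Lib.Helper6
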