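import Mathlib
import Cfsg.Prelude.Def_OddOrderChar
import Cfsg.Agent.Lib.Helper6.GenChar
import Cfsg.Agent.Lib.Lead.Artin
import Cfsg.Agent.Lib.Lead.Gram

/-!
Tools for coherence: integer spans, linear isometries on them, and the extension of a map given on
an orthogonal finite set to its integer span.
-/

set_option autoImplicit false

namespace Cfsg.Agent.Lib.Helper6

open Cfsg.Agent.Lib

section basic

variable {X : Type*} [Group X] [Fintype X]

theorem coh_norm_eq_zero (F : X → ℂ) (h : Cfsg.classInner F F = 0) : F = 0 := by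
  unfold Cfsg.classInner at h
  have hc : (Nat.card X : ℂ)⁻¹ ≠ 0 := inv_ne_zero (Nat.cast_ne_zero.mpr Nat.card_pos.ne')
  have h1 : ∑ g : X, F g * (starRingEnd ℂ) (F g) = 0 := (mul_eq_zero.mp h).resolve_left hc
  have h2 : ∀ g, F g * (starRingEnd ℂ) (F g) = ((Complex.normSq (F g) : ℝ) : ℂ) :=
    fun g => Complex.mul_conj (F g)
  simp only [h2] at h1
  have h3 : ∑ g : X, Complex.normSq (F g) = 0 := by exact_mod_cast h1
  funext g
  have h4 := (Finset.sum_eq_zero_iff_of_nonneg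
    (fun g _ => Complex.normSq_nonneg (F g))).mp h3 g (Finset.mem_univ g)
  exact Complex.normSq_eq_zero.mp h4

theorem zsmul_fun_eq (n : ℤ) (φ : X → ℂ) : n • φ = (n : ℂ) • φ :=
  (Int.cast_smul_eq_zsmul ℂ n φ).symm

theorem classInner_zsmul_left (n : ℤ) (φ ψ : X → ℂ) :
    Cfsg.classInner (n • φ) ψ = (n : ℂ) * Cfsg.classInner φ ψ := by
  rw [zsmul_fun_eq, Lead.classInner_smul_left]

theorem classInner_zsmul_right (n : ℤ) (φ ψ : X → ℂ) :
    Cfsg.classInner φ (n • ψ) = (n : ℂ) * Cfsg.classInner φ ψ := by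
  rw [zsmul_fun_eq, Lead.classInner_smul_right, map_intCast]

theorem classInner_neg_left (φ ψ : X → ℂ) :
    Cfsg.classInner (-φ) ψ = - Cfsg.classInner φ ψ := by
  have h : -φ = (-1 : ℤ) • φ := by rw [neg_smul, one_smul]
  rw [h, classInner_zsmul_left]; push_cast; ring

theorem classInner_neg_right (φ ψ : X → ℂ) :
    Cfsg.classInner φ (-ψ) = - Cfsg.classInner φ ψ := by
  have h : -ψ = (-1 : ℤ) • ψ := by rw [neg_smul, one_smul]
  rw [h, classInner_zsmul_right]; push_cast; ring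

theorem gen_inner_int {θ η : X → ℂ} (hθ : Cfsg.IsGeneralizedCharacter X θ)
    (hη : Cfsg.IsGeneralizedCharacter X η) : ∃ n : ℤ, Cfsg.classInner θ η = (n : ℂ) := by
  classical
  haveI : Fintype (Cfsg.IrrCharacter X) := Fintype.ofFinite _
  obtain ⟨a, rfl⟩ := gen_decomp hθ
  obtain ⟨b, rfl⟩ := gen_decomp hη
  exact ⟨_, gen_inner a b⟩

theorem gen_norm_nat {θ : X → ℂ} (hθ : Cfsg.IsGeneralizedCharacter X θ) :
    ∃ n : ℕ, Cfsg.classInner θ θ = (n : ℂ) := by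
  classical
  haveI : Fintype (Cfsg.IrrCharacter X) := Fintype.ofFinite _
  obtain ⟨a, rfl⟩ := gen_decomp hθ
  rw [gen_inner]
  have h0 : 0 ≤ ∑ φ, a φ * a φ := Finset.sum_nonneg (fun φ _ => mul_self_nonneg (a φ))
  refine ⟨(∑ φ, a φ * a φ).toNat, ?_⟩
  have h1 : ((∑ φ, a φ * a φ).toNat : ℤ) = ∑ φ, a φ * a φ := Int.toNat_of_nonneg h0
  rw [← h1]
  push_cast
  rfl

theorem isGen_zsmul {θ : X → ℂ} (h : Cfsg.IsGeneralizedCharacter X θ) (n : ℤ) :
    Cfsg.IsGeneralizedCharacter X (n • θ) := by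
  induction n using Int.induction_on with
  | zero => rw [zero_smul]; exact Lead.isGen_zero
  | succ i ih => rw [add_smul, one_smul]; exact Lead.isGen_add ih h
  | pred i ih => rw [sub_smul, one_smul]; exact Lead.isGen_sub ih h

/-- two generalized characters of norm one are orthogonal or equal up to sign -/
theorem gen_norm_one_pair {u v : X → ℂ} (hu : Cfsg.IsGeneralizedCharacter X u)
    (hv : Cfsg.IsGeneralizedCharacter X v) (hu1 : Cfsg.classInner u u = 1)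
    (hv1 : Cfsg.classInner v v = 1) (hne : Cfsg.classInner u v ≠ 0) :
    ∃ ε : ℂ, (ε = 1 ∨ ε = -1) ∧ u = ε • v := by
  obtain ⟨p, hp⟩ := gen_norm_one_cases u hu hu1
  obtain ⟨q, hq⟩ := gen_norm_one_cases v hv hv1
  have hpq : p = q := by
    by_contra hne'
    apply hne
    have h0 : Cfsg.classInner p.1 q.1 = 0 := Lead.irr_inner_ne hne'
    rcases hp with hp | hp <;> rcases hq with hq | hq <;> rw [hp, hq]
    · exact h0
    · rw [classInner_neg_right, h0, neg_zero]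
    · rw [classInner_neg_left, h0, neg_zero]
    · rw [classInner_neg_left, classInner_neg_right, h0, neg_zero, neg_zero]
  subst hpq
  rcases hp with hp | hp <;> rcases hq with hq | hq
  · exact ⟨1, Or.inl rfl, by rw [hp, hq, one_smul]⟩
  · exact ⟨-1, Or.inr rfl, by rw [hp, hq, neg_smul, one_smul, neg_neg]⟩
  · exact ⟨-1, Or.inr rfl, by rw [hp, hq, neg_smul, one_smul]⟩
  · exact ⟨1, Or.inl rfl, by rw [hp, hq, one_smul]⟩

theorem gen_norm_one_ne_zero {u : X → ℂ} (hu : Cfsg.IsGeneralizedCharacter X u)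
    (hu1 : Cfsg.classInner u u = 1) : u 1 ≠ 0 := by
  obtain ⟨p, hp⟩ := gen_norm_one_cases u hu hu1
  obtain ⟨n, hn, hpn⟩ := Lead.irr_one_eq_nat p
  have hn0 : (n : ℂ) ≠ 0 := Nat.cast_ne_zero.mpr hn.ne'
  rcases hp with hp | hp
  · rw [hp, hpn]; exact hn0
  · rw [hp, Pi.neg_apply, hpn]; exact neg_ne_zero.mpr hn0

/-- Bessel for an orthonormal indexed family: orthogonality of the residual -/
theorem bessel_orth {ι : Type*} [DecidableEq ι] (I : Finset ι) (u : ι → X → ℂ)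
    (hu : ∀ i ∈ I, ∀ j ∈ I, Cfsg.classInner (u i) (u j) = if i = j then 1 else 0)
    (v : X → ℂ) (j : ι) (hj : j ∈ I) :
    Cfsg.classInner (v - ∑ i ∈ I, Cfsg.classInner v (u i) • u i) (u j) = 0 := by
  rw [Lead.classInner_sub_left, Lead.classInner_sum_left, Finset.sum_eq_single j]
  · rw [Lead.classInner_smul_left, hu j hj j hj, if_pos rfl, mul_one, sub_self]
  · intro i hi hne
    rw [Lead.classInner_smul_left, hu i hi j hj, if_neg hne, mul_zero]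
  · intro h; exact absurd hj h

/-- Bessel for an orthonormal indexed family: the norm of the residual -/
theorem bessel_norm {ι : Type*} [DecidableEq ι] (I : Finset ι) (u : ι → X → ℂ)
    (hu : ∀ i ∈ I, ∀ j ∈ I, Cfsg.classInner (u i) (u j) = if i = j then 1 else 0)
    (v : X → ℂ) :
    Cfsg.classInner (v - ∑ i ∈ I, Cfsg.classInner v (u i) • u i)
        (v - ∑ i ∈ I, Cfsg.classInner v (u i) • u i)
      = Cfsg.classInner v v
        - ∑ i ∈ I, Cfsg.classInner v (u i) * (starRingEnd ℂ) (Cfsg.classInner v (u i)) := by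
  have h1 : Cfsg.classInner (v - ∑ i ∈ I, Cfsg.classInner v (u i) • u i)
      (∑ i ∈ I, Cfsg.classInner v (u i) • u i) = 0 := by
    rw [Lead.classInner_sum_right]
    apply Finset.sum_eq_zero
    intro j hj
    rw [Lead.classInner_smul_right, bessel_orth I u hu v j hj, mul_zero]
  rw [Lead.classInner_sub_right, h1, sub_zero, Lead.classInner_sub_left, Lead.classInner_sum_left]
  congr 1
  apply Finset.sum_congr rfl
  intro i _
  rw [Lead.classInner_smul_left, ← Lead.classInner_conj_symm v (u i)]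

end basic

section zspan

variable {X : Type*}

theorem zsmul_fun_apply (n : ℤ) (f : X → ℂ) (x : X) : (n • f) x = (n : ℂ) * f x := by
  rw [Pi.smul_apply, zsmul_eq_mul]

theorem zspanOn_add {S : Set (X → ℂ)} {A : Set X} {α β : X → ℂ} (hα : α ∈ Cfsg.zspanOn S A)
    (hβ : β ∈ Cfsg.zspanOn S A) : α + β ∈ Cfsg.zspanOn S A :=
  ⟨Submodule.add_mem _ hα.1 hβ.1, fun x hx => by
    rw [Pi.add_apply, hα.2 x hx, hβ.2 x hx, add_zero]⟩

theorem zspanOn_zsmul {S : Set (X → ℂ)} {A : Set X} {α : X → ℂ} (hα : α ∈ Cfsg.zspanOn S A)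
    (n : ℤ) : n • α ∈ Cfsg.zspanOn S A :=
  ⟨Submodule.smul_mem _ n hα.1, fun x hx => by rw [Pi.smul_apply, hα.2 x hx, smul_zero]⟩

theorem zspanOn_zero {S : Set (X → ℂ)} {A : Set X} : (0 : X → ℂ) ∈ Cfsg.zspanOn S A :=
  ⟨Submodule.zero_mem _, fun _ _ => rfl⟩

theorem zspanOn_neg {S : Set (X → ℂ)} {A : Set X} {α : X → ℂ} (hα : α ∈ Cfsg.zspanOn S A) :
    -α ∈ Cfsg.zspanOn S A := by
  have h := zspanOn_zsmul hα (-1)
  rwa [neg_smul, one_smul] at h

theorem zspanOn_sub {S : Set (X → ℂ)} {A : Set X} {α β : X → ℂ} (hα : α ∈ Cfsg.zspanOn S A)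
    (hβ : β ∈ Cfsg.zspanOn S A) : α - β ∈ Cfsg.zspanOn S A := by
  rw [sub_eq_add_neg]; exact zspanOn_add hα (zspanOn_neg hβ)

theorem zspanOn_mono {S S' : Set (X → ℂ)} {A : Set X} (h : S ⊆ S') :
    Cfsg.zspanOn S A ⊆ Cfsg.zspanOn S' A :=
  fun _ hα => ⟨Submodule.span_mono h hα.1, hα.2⟩

theorem zspan_mem {S : Set (X → ℂ)} {s : X → ℂ} (hs : s ∈ S) : s ∈ Cfsg.zspan S :=
  Submodule.subset_span hs

theorem zspan_add {S : Set (X → ℂ)} {α β : X → ℂ} (hα : α ∈ Cfsg.zspan S)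
    (hβ : β ∈ Cfsg.zspan S) : α + β ∈ Cfsg.zspan S := Submodule.add_mem _ hα hβ

theorem zspan_zsmul {S : Set (X → ℂ)} {α : X → ℂ} (hα : α ∈ Cfsg.zspan S) (n : ℤ) :
    n • α ∈ Cfsg.zspan S := Submodule.smul_mem _ n hα

theorem zspan_zero {S : Set (X → ℂ)} : (0 : X → ℂ) ∈ Cfsg.zspan S := Submodule.zero_mem _

theorem zspan_neg {S : Set (X → ℂ)} {α : X → ℂ} (hα : α ∈ Cfsg.zspan S) :
    -α ∈ Cfsg.zspan S := Submodule.neg_mem _ hα

theorem zspan_sub {S : Set (X → ℂ)} {α β : X → ℂ} (hα : α ∈ Cfsg.zspan S)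
    (hβ : β ∈ Cfsg.zspan S) : α - β ∈ Cfsg.zspan S := Submodule.sub_mem _ hα hβ

/-- membership in `zspanOn S {1}ᶜ` -/
theorem mem_zspanOn_one {X : Type*} [Group X] {S : Set (X → ℂ)} {α : X → ℂ}
    (hα : α ∈ Cfsg.zspan S) (h1 : α 1 = 0) : α ∈ Cfsg.zspanOn S {1}ᶜ := by
  refine ⟨hα, ?_⟩
  intro x hx
  have : x = 1 := by
    by_contra hne
    exact hx hne
  rw [this]; exact h1

theorem zspanOn_one_apply {X : Type*} [Group X] {S : Set (X → ℂ)} {α : X → ℂ}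
    (hα : α ∈ Cfsg.zspanOn S {1}ᶜ) : α 1 = 0 :=
  hα.2 1 (fun h => h rfl)

end zspan

section lin

variable {L : Type*} [Group L] [Fintype L] {G : Type*} [Group G] [Fintype G]

/-- a set closed under the `ℤ`-module operations -/
def ZClosed (E : Set (L → ℂ)) : Prop :=
  (0 : L → ℂ) ∈ E ∧ (∀ a ∈ E, ∀ b ∈ E, a + b ∈ E) ∧ (∀ a ∈ E, ∀ n : ℤ, n • a ∈ E)

theorem zclosed_zspan (S : Set (L → ℂ)) : ZClosed (Cfsg.zspan S) :=
  ⟨zspan_zero, fun _ ha _ hb => zspan_add ha hb, fun _ ha n => zspan_zsmul ha n⟩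

theorem zclosed_zspanOn (S : Set (L → ℂ)) (A : Set L) : ZClosed (Cfsg.zspanOn S A) :=
  ⟨zspanOn_zero, fun _ ha _ hb => zspanOn_add ha hb, fun _ ha n => zspanOn_zsmul ha n⟩

theorem lin_zero {E : Set (L → ℂ)} {τ : (L → ℂ) → (G → ℂ)} (hE : ZClosed E)
    (hτ : Cfsg.IsLinearIsometryOn E τ) : τ 0 = 0 := by
  have h := hτ.2.1 0 hE.1 0
  rwa [zero_smul, zero_smul] at h

theorem lin_neg {E : Set (L → ℂ)} {τ : (L → ℂ) → (G → ℂ)}
    (hτ : Cfsg.IsLinearIsometryOn E τ) {a : L → ℂ} (ha : a ∈ E) : τ (-a) = -τ a := by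
  have h := hτ.2.1 a ha (-1)
  rwa [neg_smul, one_smul, neg_smul, one_smul] at h

theorem lin_sub {E : Set (L → ℂ)} {τ : (L → ℂ) → (G → ℂ)} (hE : ZClosed E)
    (hτ : Cfsg.IsLinearIsometryOn E τ) {a b : L → ℂ} (ha : a ∈ E) (hb : b ∈ E) :
    τ (a - b) = τ a - τ b := by
  have hnb : -b ∈ E := by
    have := hE.2.2 b hb (-1)
    rwa [neg_smul, one_smul] at this
  rw [sub_eq_add_neg, hτ.1 a ha (-b) hnb, lin_neg hτ hb, sub_eq_add_neg]

theorem lin_comb {E : Set (L → ℂ)} {τ : (L → ℂ) → (G → ℂ)} (hE : ZClosed E)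
    (hτ : Cfsg.IsLinearIsometryOn E τ) {a b : L → ℂ} (ha : a ∈ E) (hb : b ∈ E) (n m : ℤ) :
    τ (n • a + m • b) = n • τ a + m • τ b := by
  rw [hτ.1 _ (hE.2.2 a ha n) _ (hE.2.2 b hb m), hτ.2.1 a ha n, hτ.2.1 b hb m]

theorem lin_comb_sub {E : Set (L → ℂ)} {τ : (L → ℂ) → (G → ℂ)} (hE : ZClosed E)
    (hτ : Cfsg.IsLinearIsometryOn E τ) {a b : L → ℂ} (ha : a ∈ E) (hb : b ∈ E) (n m : ℤ) :
    τ (n • a - m • b) = n • τ a - m • τ b := by
  rw [lin_sub hE hτ (hE.2.2 a ha n) (hE.2.2 b hb m), hτ.2.1 a ha n, hτ.2.1 b hb m]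

/-- the extension of `T`, given on the orthogonal finite set `S`, to all functions -/
noncomputable def cohExt (S : Finset (L → ℂ)) (T : (L → ℂ) → (G → ℂ)) (α : L → ℂ) : G → ℂ :=
  ∑ s ∈ S, (Cfsg.classInner α s / Cfsg.classInner s s) • T s

theorem cohExt_add (S : Finset (L → ℂ)) (T : (L → ℂ) → (G → ℂ)) (α β : L → ℂ) :
    cohExt S T (α + β) = cohExt S T α + cohExt S T β := by
  unfold cohExt
  rw [← Finset.sum_add_distrib]
  apply Finset.sum_congr rfl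
  intro s _
  rw [Lead.classInner_add_left, add_div, add_smul]

theorem cohExt_zsmul (S : Finset (L → ℂ)) (T : (L → ℂ) → (G → ℂ)) (n : ℤ) (α : L → ℂ) :
    cohExt S T (n • α) = n • cohExt S T α := by
  unfold cohExt
  rw [Finset.smul_sum]
  apply Finset.sum_congr rfl
  intro s _
  rw [classInner_zsmul_left, mul_div_assoc, mul_smul, Int.cast_smul_eq_zsmul]

theorem cohExt_zero (S : Finset (L → ℂ)) (T : (L → ℂ) → (G → ℂ)) : cohExt S T 0 = 0 := by
  have h := cohExt_zsmul S T 0 0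
  rwa [zero_smul, zero_smul] at h

theorem cohExt_neg (S : Finset (L → ℂ)) (T : (L → ℂ) → (G → ℂ)) (α : L → ℂ) :
    cohExt S T (-α) = - cohExt S T α := by
  have h := cohExt_zsmul S T (-1) α
  rwa [neg_smul, one_smul, neg_smul, one_smul] at h

theorem cohExt_sub (S : Finset (L → ℂ)) (T : (L → ℂ) → (G → ℂ)) (α β : L → ℂ) :
    cohExt S T (α - β) = cohExt S T α - cohExt S T β := by
  rw [sub_eq_add_neg, cohExt_add, cohExt_neg, sub_eq_add_neg]

theorem cohExt_apply_mem {S : Finset (L → ℂ)} {T : (L → ℂ) → (G → ℂ)}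
    (hO : ∀ s ∈ S, ∀ s' ∈ S, s ≠ s' → Cfsg.classInner s s' = 0)
    (hN : ∀ s ∈ S, Cfsg.classInner s s ≠ 0) {s₀ : L → ℂ} (hs₀ : s₀ ∈ S) :
    cohExt S T s₀ = T s₀ := by
  classical
  unfold cohExt
  rw [Finset.sum_eq_single s₀]
  · rw [div_self (hN s₀ hs₀), one_smul]
  · intro s hs hne
    rw [hO s₀ hs₀ s hs (Ne.symm hne), zero_div, zero_smul]
  · intro h; exact absurd hs₀ h

theorem cohExt_isometry {S : Finset (L → ℂ)} {T : (L → ℂ) → (G → ℂ)}
    (hO : ∀ s ∈ S, ∀ s' ∈ S, s ≠ s' → Cfsg.classInner s s' = 0)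
    (hN : ∀ s ∈ S, Cfsg.classInner s s ≠ 0)
    (hT : ∀ s ∈ S, ∀ s' ∈ S, Cfsg.classInner (T s) (T s') = Cfsg.classInner s s') :
    ∀ α ∈ Cfsg.zspan (↑S : Set (L → ℂ)), ∀ β ∈ Cfsg.zspan (↑S : Set (L → ℂ)),
      Cfsg.classInner (cohExt S T α) (cohExt S T β) = Cfsg.classInner α β := by
  intro α hα β hβ
  refine Submodule.span_induction₂ (R := ℤ) (s := (↑S : Set (L → ℂ))) (t := (↑S : Set (L → ℂ)))
    (p := fun a b _ _ => Cfsg.classInner (cohExt S T a) (cohExt S T b) = Cfsg.classInner a b)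
    ?_ ?_ ?_ ?_ ?_ ?_ ?_ hα hβ
  · intro a b ha hb
    rw [cohExt_apply_mem hO hN ha, cohExt_apply_mem hO hN hb]
    exact hT a ha b hb
  · intro b _
    rw [cohExt_zero, Lead.classInner_zero_left, Lead.classInner_zero_left]
  · intro a _
    rw [cohExt_zero, Lead.classInner_zero_right, Lead.classInner_zero_right]
  · intro a b c _ _ _ h1 h2
    rw [cohExt_add, Lead.classInner_add_left, Lead.classInner_add_left, h1, h2]
  · intro a b c _ _ _ h1 h2
    rw [cohExt_add, Lead.classInner_add_right, Lead.classInner_add_right, h1, h2]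
  · intro n a b _ _ h
    rw [cohExt_zsmul, classInner_zsmul_left, classInner_zsmul_left, h]
  · intro n a b _ _ h
    rw [cohExt_zsmul, classInner_zsmul_right, classInner_zsmul_right, h]

theorem cohExt_gen {S : Finset (L → ℂ)} {T : (L → ℂ) → (G → ℂ)}
    (hO : ∀ s ∈ S, ∀ s' ∈ S, s ≠ s' → Cfsg.classInner s s' = 0)
    (hN : ∀ s ∈ S, Cfsg.classInner s s ≠ 0)
    (hgen : ∀ s ∈ S, Cfsg.IsGeneralizedCharacter G (T s)) :
    ∀ α ∈ Cfsg.zspan (↑S : Set (L → ℂ)), Cfsg.IsGeneralizedCharacter G (cohExt S T α) := by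
  intro α hα
  refine Submodule.span_induction (R := ℤ) (s := (↑S : Set (L → ℂ)))
    (p := fun a _ => Cfsg.IsGeneralizedCharacter G (cohExt S T a)) ?_ ?_ ?_ ?_ hα
  · intro a ha
    rw [cohExt_apply_mem hO hN ha]
    exact hgen a ha
  · rw [cohExt_zero]; exact Lead.isGen_zero
  · intro a b _ _ h1 h2
    rw [cohExt_add]; exact Lead.isGen_add h1 h2
  · intro n a _ h
    rw [cohExt_zsmul]; exact isGen_zsmul h n

theorem cohExt_linIso {S : Finset (L → ℂ)} {T : (L → ℂ) → (G → ℂ)}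
    (hO : ∀ s ∈ S, ∀ s' ∈ S, s ≠ s' → Cfsg.classInner s s' = 0)
    (hN : ∀ s ∈ S, Cfsg.classInner s s ≠ 0)
    (hT : ∀ s ∈ S, ∀ s' ∈ S, Cfsg.classInner (T s) (T s') = Cfsg.classInner s s')
    (hgen : ∀ s ∈ S, Cfsg.IsGeneralizedCharacter G (T s)) :
    Cfsg.IsLinearIsometryOn (Cfsg.zspan (↑S : Set (L → ℂ))) (cohExt S T) :=
  ⟨fun α _ β _ => cohExt_add S T α β, fun α _ n => cohExt_zsmul S T n α,
    cohExt_isometry hO hN hT, cohExt_gen hO hN hgen⟩

/-- the extension agrees with a linear map on the span of a subset where they agree -/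
theorem cohExt_eq_on_sub {S : Finset (L → ℂ)} {T : (L → ℂ) → (G → ℂ)}
    (hO : ∀ s ∈ S, ∀ s' ∈ S, s ≠ s' → Cfsg.classInner s s' = 0)
    (hN : ∀ s ∈ S, Cfsg.classInner s s ≠ 0)
    (S₁ : Set (L → ℂ)) (hsub : S₁ ⊆ (↑S : Set (L → ℂ))) (τ₁ : (L → ℂ) → (G → ℂ))
    (hτ₁ : Cfsg.IsLinearIsometryOn (Cfsg.zspan S₁) τ₁) (hT : ∀ s ∈ S₁, T s = τ₁ s) :
    ∀ α ∈ Cfsg.zspan S₁, cohExt S T α = τ₁ α := by
  intro α hα
  refine Submodule.span_induction (R := ℤ) (s := S₁)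
    (p := fun a _ => cohExt S T a = τ₁ a) ?_ ?_ ?_ ?_ hα
  · intro a ha
    rw [cohExt_apply_mem hO hN (hsub ha)]
    exact hT a ha
  · rw [cohExt_zero, lin_zero (zclosed_zspan S₁) hτ₁]
  · intro a b ha hb h1 h2
    rw [cohExt_add, h1, h2, hτ₁.1 a ha b hb]
  · intro n a ha h
    rw [cohExt_zsmul, h, hτ₁.2.1 a ha n]

/-- the coherence criterion through `cohExt` -/
theorem coherent_of_ext {S : Finset (L → ℂ)} {T : (L → ℂ) → (G → ℂ)} {τ : (L → ℂ) → (G → ℂ)}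
    (hO : ∀ s ∈ S, ∀ s' ∈ S, s ≠ s' → Cfsg.classInner s s' = 0)
    (hN : ∀ s ∈ S, Cfsg.classInner s s ≠ 0)
    (hT : ∀ s ∈ S, ∀ s' ∈ S, Cfsg.classInner (T s) (T s') = Cfsg.classInner s s')
    (hgen : ∀ s ∈ S, Cfsg.IsGeneralizedCharacter G (T s))
    (hne : ∃ α ∈ Cfsg.zspanOn (↑S : Set (L → ℂ)) {1}ᶜ, α ≠ 0)
    (hag : ∀ α ∈ Cfsg.zspanOn (↑S : Set (L → ℂ)) {1}ᶜ, cohExt S T α = τ α) :
    Cfsg.IsCoherent (↑S : Set (L → ℂ)) {1}ᶜ τ :=
  ⟨hne, cohExt S T, cohExt_linIso hO hN hT hgen, hag⟩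

end lin

section irr

variable {X : Type*} [Group X] [Fintype X]

theorem irr_norm' {ξ : X → ℂ} (h : Cfsg.IsIrrCharacter X ξ) : Cfsg.classInner ξ ξ = 1 :=
  Lead.irr_inner_self ⟨ξ, h⟩

theorem irr_orth' {ξ ξ' : X → ℂ} (h : Cfsg.IsIrrCharacter X ξ) (h' : Cfsg.IsIrrCharacter X ξ')
    (hne : ξ ≠ ξ') : Cfsg.classInner ξ ξ' = 0 :=
  Lead.irr_inner_ne (χ := ⟨ξ, h⟩) (ψ := ⟨ξ', h'⟩) (fun e => hne (congrArg Subtype.val e))

theorem irr_deg' {ξ : X → ℂ} (h : Cfsg.IsIrrCharacter X ξ) : ∃ n : ℕ, 0 < n ∧ ξ 1 = (n : ℂ) :=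
  Lead.irr_one_eq_nat ⟨ξ, h⟩

theorem inner_comb (a b c d : ℤ) (u u' v v' : X → ℂ) :
    Cfsg.classInner (a • u - b • u') (c • v - d • v')
      = a * c * Cfsg.classInner u v - a * d * Cfsg.classInner u v'
        - b * c * Cfsg.classInner u' v + b * d * Cfsg.classInner u' v' := by
  rw [Lead.classInner_sub_left, Lead.classInner_sub_right, Lead.classInner_sub_right,
    classInner_zsmul_left, classInner_zsmul_left, classInner_zsmul_left, classInner_zsmul_left,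
    classInner_zsmul_right, classInner_zsmul_right, classInner_zsmul_right, classInner_zsmul_right]
  ring

omit [Fintype X] in
/-- the value at `1` of an integer combination of functions with integer values at `1` -/
theorem span_deg_int (S : Set (X → ℂ)) (hS : ∀ s ∈ S, ∃ n : ℤ, s 1 = (n : ℂ)) :
    ∀ γ ∈ Cfsg.zspan S, ∃ A : ℤ, γ 1 = (A : ℂ) := by
  intro γ hγ
  refine Submodule.span_induction (R := ℤ) (s := S)
    (p := fun a _ => ∃ A : ℤ, a 1 = (A : ℂ)) ?_ ?_ ?_ ?_ hγ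
  · intro a ha
    exact hS a ha
  · exact ⟨0, by simp⟩
  · rintro a b _ _ ⟨A, hA⟩ ⟨B, hB⟩
    exact ⟨A + B, by rw [Pi.add_apply, hA, hB]; push_cast; ring⟩
  · rintro n a _ ⟨A, hA⟩
    exact ⟨n * A, by rw [Pi.smul_apply, hA, zsmul_eq_mul]; push_cast; ring⟩

end irr

end Cfsg.Agent.Lib.Helper6
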