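import Mathlib
import Cfsg.Prelude.Def_Transfer
import Cfsg.Agent.Lib.Helper5.QuatAut
import Cfsg.Agent.Lib.Helper2.NpcSmall

set_option autoImplicit false

namespace Cfsg.Agent.Lib.Helper6

open scoped Pointwise

/-- a subgroup of index two contains the subgroup generated by the elements of odd order -/
theorem pResidual_le_of_index_two {G : Type*} [Group G] [Finite G] (N : Subgroup G)
    (hN : N.index = 2) : Cfsg.pResidual 2 G ≤ N := by
  unfold Cfsg.pResidual
  rw [Subgroup.closure_le]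
  intro g hg
  have hg' : Nat.Coprime (orderOf g) 2 := hg
  have hodd : Odd (orderOf g) := Nat.Coprime.odd_of_right hg'
  obtain ⟨m, hm⟩ := hodd
  have h1 : g = (g ^ 2) ^ (m + 1) := by
    rw [← pow_mul, show 2 * (m + 1) = orderOf g + 1 by omega, pow_succ, pow_orderOf_eq_one,
      one_mul]
  rw [h1]
  exact pow_mem (Subgroup.sq_mem_of_index_two hN g) _

/-- `S` looks like a dihedral group with rotation subgroup `⟨ρ⟩`: every element of `S` outside
`⟨ρ⟩` is an involution and `⟨ρ⟩` has index at most two. -/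
def DihLike {X : Type*} [Group X] (S : Subgroup X) (ρ : X) : Prop :=
  ρ ∈ S ∧ (∀ x ∈ S, x ∉ Subgroup.zpowers ρ → x ^ 2 = 1) ∧
  (∀ x ∈ S, ∀ y ∈ S, x ∉ Subgroup.zpowers ρ → y ∉ Subgroup.zpowers ρ →
    x * y ∈ Subgroup.zpowers ρ)

theorem dihLike_of_equiv {X : Type*} [Group X] (S : Subgroup X) (n : ℕ)
    (e : ↥S ≃* DihedralGroup n) :
    DihLike S ((e.symm (DihedralGroup.r 1) : ↥S) : X) ∧
      orderOf ((e.symm (DihedralGroup.r 1) : ↥S) : X) = n := by
  have hmem : ∀ x : ↥S, (∃ i, e x = DihedralGroup.r i) →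
      (x : X) ∈ Subgroup.zpowers ((e.symm (DihedralGroup.r 1) : ↥S) : X) := by
    rintro x ⟨i, hi⟩
    have h1 : x = (e.symm (DihedralGroup.r 1)) ^ (ZMod.cast i : ℤ) := by
      apply e.injective
      rw [map_zpow, MulEquiv.apply_symm_apply, hi, DihedralGroup.r_one_zpow,
        ZMod.intCast_zmod_cast]
    rw [h1]
    exact ⟨(ZMod.cast i : ℤ), by simp⟩
  refine ⟨⟨(e.symm (DihedralGroup.r 1)).2, ?_, ?_⟩, ?_⟩
  · intro x hx hxn
    rcases hex : e ⟨x, hx⟩ with i | i
    · exact absurd (hmem ⟨x, hx⟩ ⟨i, hex⟩) hxn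
    · have h1 : (⟨x, hx⟩ : ↥S) ^ 2 = 1 := by
        apply e.injective
        rw [map_pow, hex, map_one, pow_two, DihedralGroup.sr_mul_self]
      exact congrArg Subtype.val h1
  · intro x hx y hy hxn hyn
    rcases hex : e ⟨x, hx⟩ with i | i
    · exact absurd (hmem ⟨x, hx⟩ ⟨i, hex⟩) hxn
    · rcases hey : e ⟨y, hy⟩ with j | j
      · exact absurd (hmem ⟨y, hy⟩ ⟨j, hey⟩) hyn
      · exact hmem (⟨x, hx⟩ * ⟨y, hy⟩) ⟨j - i, by
          rw [map_mul, hex, hey, DihedralGroup.sr_mul_sr]⟩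
  · rw [Subgroup.orderOf_coe, MulEquiv.orderOf_eq e.symm, DihedralGroup.orderOf_r_one]

theorem dihLike_conj {X : Type*} [Group X] {S : Subgroup X} {ρ : X} (h : DihLike S ρ) (g : X) :
    DihLike (MulAut.conj g • S) (g * ρ * g⁻¹) := by
  have hmem : ∀ x : X, x ∈ MulAut.conj g • S ↔ g⁻¹ * x * g ∈ S := by
    intro x
    rw [Subgroup.mem_pointwise_smul_iff_inv_smul_mem, MulAut.smul_def, MulAut.conj_inv_apply]
  have hz : ∀ x : X, x ∈ Subgroup.zpowers (g * ρ * g⁻¹) ↔ g⁻¹ * x * g ∈ Subgroup.zpowers ρ := by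
    intro x
    constructor
    · rintro ⟨k, rfl⟩
      refine ⟨k, ?_⟩
      simp only [conj_zpow]
      group
    · rintro ⟨k, hk⟩
      refine ⟨k, ?_⟩
      simp only [conj_zpow] at hk ⊢
      rw [hk]
      group
  refine ⟨?_, ?_, ?_⟩
  · rw [hmem]
    have : g⁻¹ * (g * ρ * g⁻¹) * g = ρ := by group
    rw [this]
    exact h.1
  · intro x hx hxn
    rw [hmem] at hx
    rw [hz] at hxn
    have h1 := h.2.1 _ hx hxn
    have h2 : (g⁻¹ * x * g) ^ 2 = g⁻¹ * x ^ 2 * g := by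
      rw [pow_two, pow_two]; group
    rw [h2] at h1
    have h3 : x ^ 2 = g * (g⁻¹ * x ^ 2 * g) * g⁻¹ := by group
    rw [h3, h1]
    group
  · intro x hx y hy hxn hyn
    rw [hmem] at hx hy
    rw [hz] at hxn hyn ⊢
    have h1 := h.2.2 _ hx _ hy hxn hyn
    have h2 : g⁻¹ * (x * y) * g = g⁻¹ * x * g * (g⁻¹ * y * g) := by group
    rw [h2]
    exact h1

/-- an odd-order element normalising a subgroup `Q` of a dihedral-like `2`-group `S`, where `Q`
has an element of order at least four, centralises `Q` -/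
theorem centralizes_of_dihLike {X : Type*} [Group X] [Finite X] {S : Subgroup X} {ρ : X}
    (hS : IsPGroup 2 S) (h : DihLike S ρ) (Q : Subgroup X) (hQS : Q ≤ S) (g : X)
    (hg : g ∈ Subgroup.normalizer (Q : Set X)) (hodd : Odd (orderOf g))
    (hex : ∃ x ∈ Q, x ^ 2 ≠ 1) : ∀ x ∈ Q, g * x * g⁻¹ = x := by
  classical
  have hgQ : ∀ x ∈ Q, g * x * g⁻¹ ∈ Q := fun x hx => (Subgroup.mem_normalizer_iff.mp hg x).mp hx
  have h2el : ∀ x ∈ S, ∃ k : ℕ, x ^ 2 ^ k = 1 := by
    intro x hx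
    obtain ⟨k, hk⟩ := hS ⟨x, hx⟩
    exact ⟨k, by simpa using congrArg Subtype.val hk⟩
  haveI : IsCyclic ↥(Q ⊓ Subgroup.zpowers ρ) := Subgroup.isCyclic_of_le inf_le_right
  obtain ⟨c, hc⟩ := IsCyclic.exists_generator (α := ↥(Q ⊓ Subgroup.zpowers ρ))
  have hcgen : ∀ x ∈ Q ⊓ Subgroup.zpowers ρ, x ∈ Subgroup.zpowers (c : X) := by
    intro x hx
    obtain ⟨k, hk⟩ := Subgroup.mem_zpowers_iff.mp (hc ⟨x, hx⟩)
    refine ⟨k, ?_⟩
    have := congrArg Subtype.val hk
    simpa using this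
  have hcQ : (c : X) ∈ Q := c.2.1
  have hcS : (c : X) ∈ S := hQS hcQ
  obtain ⟨x₀, hx₀Q, hx₀⟩ := hex
  have hx₀M : x₀ ∈ Subgroup.zpowers ρ := by
    by_contra hn
    exact hx₀ (h.2.1 x₀ (hQS hx₀Q) hn)
  have hc2 : (c : X) ^ 2 ≠ 1 := by
    intro hc2
    obtain ⟨k, hk⟩ := Subgroup.mem_zpowers_iff.mp (hcgen x₀ ⟨hx₀Q, hx₀M⟩)
    apply hx₀
    rw [← hk, ← zpow_natCast, ← zpow_mul, mul_comm, zpow_mul, zpow_natCast, hc2, one_zpow]
  have hgc : g * (c : X) * g⁻¹ ∈ Subgroup.zpowers (c : X) := by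
    apply hcgen
    refine ⟨hgQ _ hcQ, ?_⟩
    by_contra hn
    have h1 := h.2.1 _ (hQS (hgQ _ hcQ)) hn
    rw [conj_pow] at h1
    apply hc2
    have h3 : (c : X) ^ 2 = g⁻¹ * (g * (c : X) ^ 2 * g⁻¹) * g := by group
    rw [h3, h1]
    group
  obtain ⟨s, hs⟩ : ∃ s : ℕ, orderOf (c : X) = 2 ^ s := by
    obtain ⟨k, hk⟩ := h2el _ hcS
    exact (Nat.dvd_prime_pow Nat.prime_two).mp (orderOf_dvd_of_pow_eq_one hk) |>.imp
      (fun s hs => hs.2)
  have hgc1 : g * (c : X) * g⁻¹ = c :=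
    Cfsg.Agent.Lib.Helper5.conj_eq_of_two_power_cyclic (c : X) g s (orderOf g) hs hgc hodd
      (pow_orderOf_eq_one g)
  have hQ0 : ∀ z ∈ Q ⊓ Subgroup.zpowers ρ, g * z * g⁻¹ = z := by
    intro z hz
    obtain ⟨k, hk⟩ := Subgroup.mem_zpowers_iff.mp (hcgen z hz)
    rw [← hk, ← conj_zpow, hgc1]
  intro y hy
  by_cases hyM : y ∈ Subgroup.zpowers ρ
  · exact hQ0 y ⟨hy, hyM⟩
  · have hy'M : g * y * g⁻¹ ∉ Subgroup.zpowers ρ := by
      intro hy'M
      have h1 := hQ0 _ ⟨hgQ y hy, hy'M⟩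
      have h2 : g * y * g⁻¹ = y := by
        have h3 : g * y * g⁻¹ = g⁻¹ * (g * (g * y * g⁻¹) * g⁻¹) * g := by group
        rw [h3, h1]
        group
      rw [h2] at hy'M
      exact hyM hy'M
    have h1 := h.2.2 y (hQS hy) _ (hQS (hgQ y hy)) hyM hy'M
    have hy2 := h.2.1 y (hQS hy) hyM
    have h2 : g * y * g⁻¹ = y * (y * (g * y * g⁻¹)) := by
      rw [← mul_assoc, ← pow_two, hy2, one_mul]
    have h3 := hQ0 _ ⟨Q.mul_mem hy (hgQ y hy), h1⟩
    have h4 : g * (y * (g * y * g⁻¹)) = y * (g * y * g⁻¹) * g := by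
      conv_rhs => rw [← h3]
      group
    have h5 := Cfsg.Agent.Lib.Helper2.Npc.eq_one_of_conj_eq_mul (p := 2) g y
      (y * (g * y * g⁻¹)) h2 h4
      (h2el _ (S.mul_mem (hQS hy) (hQS (hgQ y hy)))) (Nat.Coprime.symm
        (Nat.coprime_two_left.mpr hodd))
    rw [h2, h5, mul_one]

/-- a subgroup of exponent two of a dihedral-like group has order at most four -/
theorem card_le_four_of_dihLike {X : Type*} [Group X] [Finite X] {S : Subgroup X} {ρ : X}
    (h : DihLike S ρ) (Q : Subgroup X) (hQS : Q ≤ S) (hexp : ∀ x ∈ Q, x ^ 2 = 1) :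
    Nat.card Q ≤ 4 := by
  classical
  haveI : IsCyclic ↥(Q ⊓ Subgroup.zpowers ρ) := Subgroup.isCyclic_of_le inf_le_right
  obtain ⟨c, hc⟩ := IsCyclic.exists_generator (α := ↥(Q ⊓ Subgroup.zpowers ρ))
  have hcard0 : Nat.card ↥(Q ⊓ Subgroup.zpowers ρ) ≤ 2 := by
    rw [← orderOf_eq_card_of_forall_mem_zpowers hc]
    have h1 : c ^ 2 = 1 := Subtype.ext (by simpa using hexp _ c.2.1)
    exact Nat.le_of_dvd (by norm_num) (orderOf_dvd_of_pow_eq_one h1)
  have hidx : ((Q ⊓ Subgroup.zpowers ρ).subgroupOf Q).index ≤ 2 := by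
    by_cases hall : Q ≤ Subgroup.zpowers ρ
    · have : (Q ⊓ Subgroup.zpowers ρ).subgroupOf Q = ⊤ := by
        rw [Subgroup.subgroupOf_eq_top]
        exact le_inf le_rfl hall
      rw [this, Subgroup.index_top]
      norm_num
    · obtain ⟨a, haQ, haM⟩ := SetLike.not_le_iff_exists.mp hall
      have : ((Q ⊓ Subgroup.zpowers ρ).subgroupOf Q).index = 2 := by
        rw [Subgroup.index_eq_two_iff]
        refine ⟨⟨a, haQ⟩, fun b => ?_⟩
        by_cases hbM : (b : X) ∈ Subgroup.zpowers ρ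
        · refine Or.inr ⟨Subgroup.mem_subgroupOf.mpr ⟨b.2, hbM⟩, fun hba => ?_⟩
          have h1 : (b : X) * a ∈ Subgroup.zpowers ρ := (Subgroup.mem_subgroupOf.mp hba).2
          exact haM ((Subgroup.mul_mem_cancel_left _ hbM).mp h1)
        · refine Or.inl ⟨Subgroup.mem_subgroupOf.mpr ⟨Q.mul_mem b.2 haQ, ?_⟩, fun hb => ?_⟩
          · exact h.2.2 _ (hQS b.2) _ (hQS haQ) hbM haM
          · exact hbM (Subgroup.mem_subgroupOf.mp hb).2
      omega
  have h1 := ((Q ⊓ Subgroup.zpowers ρ).subgroupOf Q).card_mul_index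
  rw [Nat.card_congr (Subgroup.subgroupOfEquivOfLe
    (inf_le_left : Q ⊓ Subgroup.zpowers ρ ≤ Q)).toEquiv] at h1
  rw [← h1]
  calc Nat.card ↥(Q ⊓ Subgroup.zpowers ρ) * ((Q ⊓ Subgroup.zpowers ρ).subgroupOf Q).index
      ≤ 2 * 2 := Nat.mul_le_mul hcard0 hidx
    _ = 4 := by norm_num

/-- an odd-order element normalising a group `Q` of exponent two and order at most four, and
fixing a non-identity element of `Q`, centralises `Q` -/
theorem centralizes_of_card_le_four {X : Type*} [Group X] [Finite X] (Q : Subgroup X)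
    (hQ4 : Nat.card Q ≤ 4) (hexp : ∀ x ∈ Q, x ^ 2 = 1) (t : X) (htQ : t ∈ Q) (ht1 : t ≠ 1)
    (g : X) (hg : g ∈ Subgroup.normalizer (Q : Set X)) (hodd : Odd (orderOf g))
    (hgt : g * t * g⁻¹ = t) : ∀ x ∈ Q, g * x * g⁻¹ = x := by
  classical
  have hgQ : ∀ x ∈ Q, g * x * g⁻¹ ∈ Q := fun x hx => (Subgroup.mem_normalizer_iff.mp hg x).mp hx
  have hcomm : ∀ a ∈ Q, ∀ b ∈ Q, a * b = b * a := by
    intro a ha b hb
    have h1 := hexp _ (Q.mul_mem ha hb)
    have ha2 := hexp a ha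
    have hb2 := hexp b hb
    have h2 : a * b = (a * b)⁻¹ := by
      rw [eq_inv_iff_mul_eq_one, ← pow_two, h1]
    have h3 : a⁻¹ = a := by rw [inv_eq_iff_mul_eq_one, ← pow_two, ha2]
    have h4 : b⁻¹ = b := by rw [inv_eq_iff_mul_eq_one, ← pow_two, hb2]
    rw [h2, mul_inv_rev, h3, h4]
  intro y hy
  by_contra hne
  have hy1 : y ≠ 1 := by
    rintro rfl
    apply hne; group
  have hyt : y ≠ t := by
    rintro rfl
    exact hne hgt
  have hy'1 : g * y * g⁻¹ ≠ 1 := by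
    intro h1
    apply hy1
    have : y = g⁻¹ * (g * y * g⁻¹) * g := by group
    rw [this, h1]; group
  have hy't : g * y * g⁻¹ ≠ t := by
    intro h1
    apply hyt
    have : y = g⁻¹ * (g * y * g⁻¹) * g := by group
    rw [this, h1]
    have h2 : t = g⁻¹ * (g * t * g⁻¹) * g := by group
    conv_rhs => rw [h2, hgt]
  have hmem : t * y ∈ ({1, t, y, g * y * g⁻¹} : Finset X) := by
    by_contra hn
    have hsub : ((insert (t * y) ({1, t, y, g * y * g⁻¹} : Finset X) : Finset X) : Set X) ⊆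
        (Q : Set X) := by
      intro z hz
      simp only [Finset.coe_insert, Set.mem_insert_iff, Finset.mem_coe,
        Finset.mem_singleton] at hz
      rcases hz with rfl | rfl | rfl | rfl | rfl
      · exact Q.mul_mem htQ hy
      · exact Q.one_mem
      · exact htQ
      · exact hy
      · exact hgQ _ hy
    have hcard : (insert (t * y) ({1, t, y, g * y * g⁻¹} : Finset X) : Finset X).card = 5 := by
      rw [Finset.card_insert_of_notMem hn, Finset.card_insert_of_notMem,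
        Finset.card_insert_of_notMem, Finset.card_insert_of_notMem, Finset.card_singleton]
      · simp only [Finset.mem_singleton]; exact fun h => hne h.symm
      · simp only [Finset.mem_insert, Finset.mem_singleton]
        rintro (h | h)
        · exact hyt h.symm
        · exact hy't h.symm
      · simp only [Finset.mem_insert, Finset.mem_singleton]
        rintro (h | h | h)
        · exact ht1 h.symm
        · exact hy1 h.symm
        · exact hy'1 h.symm
    have h5 : 5 ≤ Nat.card Q := by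
      rw [← hcard, ← Set.ncard_coe_finset, ← Nat.card_coe_set_eq]
      exact Set.ncard_le_ncard hsub (Set.toFinite _)
    omega
  simp only [Finset.mem_insert, Finset.mem_singleton] at hmem
  have ht2 := hexp t htQ
  rcases hmem with h | h | h | h
  · apply hyt
    have : y = t⁻¹ := eq_inv_of_mul_eq_one_right h
    rw [this, inv_eq_iff_mul_eq_one, ← pow_two, ht2]
  · exact hy1 (mul_eq_left.mp h)
  · exact ht1 (mul_eq_right.mp h)
  · have h1 : g * y * g⁻¹ = y * t := by rw [← h, hcomm t htQ y hy]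
    have h2 : g * t = t * g := by
      conv_rhs => rw [← hgt]
      group
    exact ht1 (Cfsg.Agent.Lib.Helper2.Npc.eq_one_of_conj_eq_mul (p := 2) g y t h1 h2
      ⟨1, by rw [pow_one]; exact ht2⟩ (Nat.Coprime.symm (Nat.coprime_two_left.mpr hodd)))

end Cfsg.Agent.Lib.Helper6
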