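import Mathlib

set_option autoImplicit false

namespace Cfsg.Agent.Lib.Helper6

/-- A group `Q ⋊ ⟨z⟩` (with `z` of prime order `r` acting fixed-point-freely on `Q`) acting on an
abelian group `V` such that neither `z` nor `Q` has a nontrivial fixed point: then `V` has exponent
dividing `|Q|`. -/
theorem frob_action {H V : Type*} [Group H] [CommGroup V] [MulDistribMulAction H V]
    (Q : Subgroup H) [Finite Q] (z : H) (r : ℕ) (hr : r.Prime) (hz : z ^ r = 1)
    (hzQ : ∀ u ∈ Q, z * u * z⁻¹ ∈ Q)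
    (hfpf : ∀ u ∈ Q, z * u = u * z → u = 1)
    (h2 : ∀ v : V, z • v = v → v = 1)
    (h3 : ∀ v : V, (∀ y ∈ Q, y • v = v) → v = 1) :
    ∀ v : V, v ^ Nat.card Q = 1 := by
  classical
  haveI := Fintype.ofFinite Q
  obtain ⟨r', rfl⟩ : ∃ r', r = r' + 1 := ⟨r - 1, by have := hr.pos; omega⟩
  have f2 : ∀ v : V, ∏ i ∈ Finset.range (r' + 1), (z ^ i) • v = 1 := by
    intro v
    apply h2
    rw [Finset.smul_prod']
    simp only [← mul_smul, ← pow_succ']
    rw [Finset.prod_range_succ, Finset.prod_range_succ', hz, pow_zero]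
  have f3 : ∀ v : V, ∏ y : Q, (y : H) • v = 1 := by
    intro v
    apply h3
    intro y hy
    rw [Finset.smul_prod']
    simp only [← mul_smul]
    exact Fintype.prod_bijective (fun y' : Q => ⟨y, hy⟩ * y') (Group.mulLeft_bijective _) _ _
      (fun y' => rfl)
  have hfpf' : ∀ i, 0 < i → i < r' + 1 → ∀ u ∈ Q, z ^ i * u = u * z ^ i → u = 1 := by
    intro i hi hir u hu hc
    apply hfpf u hu
    have hcop : Nat.Coprime i (r' + 1) :=
      ((Nat.Prime.coprime_iff_not_dvd hr).mpr (Nat.not_dvd_of_pos_of_lt hi hir)).symm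
    obtain ⟨m, -, hm⟩ := Nat.exists_mul_mod_eq_one_of_coprime hcop hr.one_lt
    have hzm : (z ^ i) ^ m = z := by
      rw [← pow_mul]
      conv_lhs => rw [← Nat.mod_add_div (i * m) (r' + 1)]
      rw [pow_add, pow_mul, hz, one_pow, mul_one, hm, pow_one]
    have h1 : Commute (z ^ i) u := hc
    have h4 := h1.pow_left m
    rw [hzm] at h4
    exact h4.eq
  have hzQ' : ∀ i : ℕ, ∀ u ∈ Q, z ^ i * u * (z ^ i)⁻¹ ∈ Q := by
    intro i
    induction i with
    | zero => intro u hu; simpa using hu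
    | succ i ih =>
      intro u hu
      have h1 := hzQ _ (ih u hu)
      have e : z ^ (i + 1) * u * (z ^ (i + 1))⁻¹ = z * (z ^ i * u * (z ^ i)⁻¹) * z⁻¹ := by
        rw [pow_succ']
        group
      rw [e]
      exact h1
  intro v
  have key : ∀ i, 0 < i → i < r' + 1 →
      ∏ y : Q, ((y : H) * z ^ i) • v = ∏ u : Q, ((u : H)⁻¹ * z ^ i * u) • v := by
    intro i hi hir
    symm
    let σ : Q → Q := fun u =>
      ⟨(u : H)⁻¹ * (z ^ i * u * (z ^ i)⁻¹), Q.mul_mem (Q.inv_mem u.2) (hzQ' i u u.2)⟩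
    have hσ : Function.Injective σ := by
      intro u w huw
      have h1 : (u : H)⁻¹ * (z ^ i * u * (z ^ i)⁻¹) = (w : H)⁻¹ * (z ^ i * w * (z ^ i)⁻¹) :=
        congrArg Subtype.val huw
      have h2 : z ^ i * ((w : H) * (u : H)⁻¹) = ((w : H) * (u : H)⁻¹) * z ^ i := by
        have h5 : (w : H) * ((u : H)⁻¹ * (z ^ i * u * (z ^ i)⁻¹)) * (z ^ i) * (u : H)⁻¹ =
            (w : H) * ((w : H)⁻¹ * (z ^ i * w * (z ^ i)⁻¹)) * z ^ i * (u : H)⁻¹ := by rw [h1]
        have e1 : (w : H) * ((u : H)⁻¹ * (z ^ i * u * (z ^ i)⁻¹)) * (z ^ i) * (u : H)⁻¹ =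
            (w : H) * (u : H)⁻¹ * z ^ i := by group
        have e2 : (w : H) * ((w : H)⁻¹ * (z ^ i * w * (z ^ i)⁻¹)) * z ^ i * (u : H)⁻¹ =
            z ^ i * ((w : H) * (u : H)⁻¹) := by group
        rw [e1, e2] at h5
        exact h5.symm
      have h3 := hfpf' i hi hir _ (Q.mul_mem w.2 (Q.inv_mem u.2)) h2
      apply Subtype.ext
      have h6 : (w : H) = u := by rw [← mul_inv_eq_one]; exact h3
      exact h6.symm
    have hσb : Function.Bijective σ := Finite.injective_iff_bijective.mp hσ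
    refine Fintype.prod_bijective σ hσb _ _ (fun u => ?_)
    show ((u : H)⁻¹ * z ^ i * u) • v = (((u : H)⁻¹ * (z ^ i * u * (z ^ i)⁻¹)) * z ^ i) • v
    congr 1
    group
  have S1 : ∏ y : Q, ∏ i ∈ Finset.range (r' + 1), ((y : H) * z ^ i) • v = 1 := by
    have h1 : ∀ y : Q, ∏ i ∈ Finset.range (r' + 1), ((y : H) * z ^ i) • v = 1 := by
      intro y
      simp only [mul_smul]
      rw [← Finset.smul_prod', f2, smul_one]
    simp [h1]
  have S2 : ∏ y : Q, ∏ i ∈ Finset.range (r' + 1), ((y : H) * z ^ i) • v =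
      (v⁻¹) ^ (Nat.card Q) := by
    rw [Finset.prod_comm, Finset.prod_range_succ']
    have h0 : ∏ y : Q, ((y : H) * z ^ 0) • v = 1 := by simpa using f3 v
    rw [h0, mul_one]
    have h1 : ∀ i ∈ Finset.range r', ∏ y : Q, ((y : H) * z ^ (i + 1)) • v =
        ∏ u : Q, ((u : H)⁻¹ * z ^ (i + 1) * u) • v := fun i hi =>
      key (i + 1) (Nat.succ_pos i) (by have := Finset.mem_range.mp hi; omega)
    rw [Finset.prod_congr rfl h1, Finset.prod_comm]
    have hu : ∀ u : Q, ∏ i ∈ Finset.range r', ((u : H)⁻¹ * z ^ (i + 1) * u) • v = v⁻¹ := by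
      intro u
      have h4 : ∏ i ∈ Finset.range (r' + 1), ((u : H)⁻¹ * z ^ i * u) • v = 1 := by
        have h5 : ∀ i : ℕ, ((u : H)⁻¹ * z ^ i * u) • v = (u : H)⁻¹ • (z ^ i • ((u : H) • v)) := by
          intro i
          rw [mul_smul, mul_smul]
        simp only [h5]
        rw [← Finset.smul_prod', f2, smul_one]
      rw [Finset.prod_range_succ'] at h4
      have h6 : ((u : H)⁻¹ * z ^ 0 * u) • v = v := by simp
      rw [h6] at h4
      exact eq_inv_of_mul_eq_one_left h4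
    rw [Finset.prod_congr rfl (fun u _ => hu u), Finset.prod_const, Finset.card_univ,
      Nat.card_eq_fintype_card]
  rw [S1, inv_pow] at S2
  exact inv_eq_one.mp S2.symm

/-- commuting nontrivial elements of `p`-power and `r`-power order give an element of order `pr` -/
theorem exists_orderOf_eq_mul {G : Type*} [Group G] {p r : ℕ} (hp : p.Prime) (hr : r.Prime)
    (hpr : p ≠ r) {x y : G} (hx : x ≠ 1) (hy : y ≠ 1) (hxp : ∃ k, orderOf x = p ^ k)
    (hyr : ∃ k, orderOf y = r ^ k) (hc : Commute x y) : ∃ w : G, orderOf w = p * r := by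
  obtain ⟨k, hk⟩ := hxp
  obtain ⟨l, hl⟩ := hyr
  have hk0 : k ≠ 0 := by
    rintro rfl
    rw [pow_zero, orderOf_eq_one_iff] at hk
    exact hx hk
  have hl0 : l ≠ 0 := by
    rintro rfl
    rw [pow_zero, orderOf_eq_one_iff] at hl
    exact hy hl
  have h1 : orderOf (x ^ (orderOf x / p)) = p :=
    orderOf_pow_orderOf_div (by rw [hk]; exact (pow_pos hp.pos k).ne')
      (by rw [hk]; exact dvd_pow_self p hk0)
  have h2 : orderOf (y ^ (orderOf y / r)) = r :=
    orderOf_pow_orderOf_div (by rw [hl]; exact (pow_pos hr.pos l).ne')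
      (by rw [hl]; exact dvd_pow_self r hl0)
  refine ⟨x ^ (orderOf x / p) * y ^ (orderOf y / r), ?_⟩
  have hc' : Commute (x ^ (orderOf x / p)) (y ^ (orderOf y / r)) := (hc.pow_left _).pow_right _
  rw [hc'.orderOf_mul_eq_mul_orderOf_of_coprime
    (by rw [h1, h2]; exact (Nat.coprime_primes hp hr).mpr hpr), h1, h2]

theorem exists_orderOf_eq_pow_of_pow_eq_one {G : Type*} [Group G] {q k : ℕ} (hq : q.Prime)
    {x : G} (h : x ^ q ^ k = 1) : ∃ j, orderOf x = q ^ j := by
  obtain ⟨j, _, hj⟩ := (Nat.dvd_prime_pow hq).mp (orderOf_dvd_of_pow_eq_one h)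
  exact ⟨j, hj⟩

/-- Frattini argument: a Sylow `p`-subgroup `P` of a normal subgroup `N` with `N_X(P) N = X`. -/
theorem frattini_sylow {X : Type*} [Group X] [Finite X] (N : Subgroup X) [N.Normal] (p : ℕ)
    [Fact p.Prime] :
    ∃ P : Subgroup X, P ≤ N ∧ IsPGroup p P ∧ Nat.card P = p ^ (Nat.card N).factorization p ∧
      Subgroup.normalizer (P : Set X) ⊔ N = ⊤ := by
  obtain ⟨P₀⟩ : Nonempty (Sylow p N) := inferInstance
  refine ⟨(P₀ : Subgroup N).map N.subtype, Subgroup.map_subtype_le _, P₀.isPGroup'.map _, ?_,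
    Sylow.normalizer_sup_eq_top P₀⟩
  rw [Subgroup.card_map_of_injective N.subtype_injective]
  exact P₀.card_eq_multiplicity

/-- conjugation action of `N_G(P)` on `Z(P)` -/
@[reducible] def conjCenterAction {G : Type*} [Group G] (P : Subgroup G) :
    MulDistribMulAction ↥(Subgroup.normalizer (P : Set G)) ↥(Subgroup.center ↥P) where
  smul g v := ⟨⟨(g : G) * ((v : ↥P) : G) * (g : G)⁻¹,
      (Subgroup.mem_normalizer_iff.mp g.2 _).mp v.1.2⟩, by
    rw [Subgroup.mem_center_iff]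
    intro x
    apply Subtype.ext
    show (x : G) * ((g : G) * ((v : ↥P) : G) * (g : G)⁻¹) =
      (g : G) * ((v : ↥P) : G) * (g : G)⁻¹ * (x : G)
    have hx' : (g : G)⁻¹ * x * g ∈ P := by
      have := (Subgroup.mem_normalizer_iff.mp (Subgroup.inv_mem _ g.2) x).mp x.2
      simpa using this
    have hc := Subgroup.mem_center_iff.mp v.2 ⟨_, hx'⟩
    have hc' : (g : G)⁻¹ * x * g * ((v : ↥P) : G) = ((v : ↥P) : G) * ((g : G)⁻¹ * x * g) :=
      congrArg Subtype.val hc
    calc (x : G) * ((g : G) * ((v : ↥P) : G) * (g : G)⁻¹)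
        = g * ((g : G)⁻¹ * x * g * ((v : ↥P) : G)) * (g : G)⁻¹ := by group
      _ = g * (((v : ↥P) : G) * ((g : G)⁻¹ * x * g)) * (g : G)⁻¹ := by rw [hc']
      _ = (g : G) * ((v : ↥P) : G) * (g : G)⁻¹ * (x : G) := by group⟩
  one_smul v := by
    apply Subtype.ext; apply Subtype.ext
    show ((1 : ↥(Subgroup.normalizer (P : Set G))) : G) * ((v : ↥P) : G) *
      ((1 : ↥(Subgroup.normalizer (P : Set G))) : G)⁻¹ = ((v : ↥P) : G)
    simp
  mul_smul a b v := by
    apply Subtype.ext; apply Subtype.ext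
    show ((a * b : ↥(Subgroup.normalizer (P : Set G))) : G) * ((v : ↥P) : G) *
      ((a * b : ↥(Subgroup.normalizer (P : Set G))) : G)⁻¹ =
      (a : G) * ((b : G) * ((v : ↥P) : G) * (b : G)⁻¹) * (a : G)⁻¹
    simp [mul_assoc]
  smul_mul a v w := by
    apply Subtype.ext; apply Subtype.ext
    show (a : G) * (((v * w : ↥(Subgroup.center ↥P)) : ↥P) : G) * (a : G)⁻¹ =
      ((a : G) * ((v : ↥P) : G) * (a : G)⁻¹) * ((a : G) * ((w : ↥P) : G) * (a : G)⁻¹)
    simp [mul_assoc]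
  smul_one a := by
    apply Subtype.ext; apply Subtype.ext
    show (a : G) * (((1 : ↥(Subgroup.center ↥P)) : ↥P) : G) * (a : G)⁻¹ = 1
    simp

end Cfsg.Agent.Lib.Helper6
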