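import Mathlib
import Cfsg.Agent.Lib.Helper6.LinChar4
import Cfsg.Agent.Lib.Helper7.LinTwist
import Cfsg.Agent.Lib.Helper7.Clifford
import Cfsg.Agent.Lib.Helper8.Sd2
import Cfsg.Agent.Lib.Lead.Char15

/-!
"Going down" for an invariant irreducible character over an abelian chief factor.
-/

set_option autoImplicit false

namespace Cfsg.Agent.Lib.Helper6

open Cfsg.Agent.Lib

open Classical in
/-- dual orthogonality over the whole dual group -/
theorem hom_dual_sum {W : Type*} [Group W] [Finite W] (hcomm : ∀ a b : W, a * b = b * a)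
    [Fintype (W →* ℂˣ)] (x : W) :
    ∑ μ : W →* ℂˣ, ((μ x : ℂˣ) : ℂ) = if x = 1 then (Nat.card W : ℂ) else 0 := by
  by_cases hx : x = 1
  · rw [if_pos hx, hx]
    simp only [map_one, Units.val_one, Finset.sum_const, Finset.card_univ, nsmul_eq_mul, mul_one]
    rw [← card_hom hcomm, Nat.card_eq_fintype_card]
  · rw [if_neg hx]
    obtain ⟨φ₀, -, hφ₀x⟩ := exists_hom_sep hcomm ⊥ x (by rw [Subgroup.mem_bot]; exact hx)
    have h1 : ∑ μ : W →* ℂˣ, ((μ x : ℂˣ) : ℂ)
        = (φ₀ x : ℂ) * ∑ μ : W →* ℂˣ, ((μ x : ℂˣ) : ℂ) := by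
      rw [Finset.mul_sum, ← Equiv.sum_comp (Equiv.mulLeft φ₀)]
      apply Finset.sum_congr rfl
      intro μ _
      simp [MonoidHom.mul_apply]
    have h2 : ((φ₀ x : ℂ) - 1) * ∑ μ : W →* ℂˣ, ((μ x : ℂˣ) : ℂ) = 0 := by
      linear_combination -h1
    rcases mul_eq_zero.mp h2 with h3 | h3
    · exfalso
      apply hφ₀x
      apply Units.ext
      rw [Units.val_one]
      linear_combination h3
    · exact h3

theorem quot_comm {Kt : Type*} [Group Kt] (N : Subgroup Kt) [hN : N.Normal]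
    (hab : ∀ x y : Kt, x * y * x⁻¹ * y⁻¹ ∈ N) : ∀ a b : Kt ⧸ N, a * b = b * a := by
  intro a b
  obtain ⟨x, rfl⟩ := QuotientGroup.mk_surjective a
  obtain ⟨y, rfl⟩ := QuotientGroup.mk_surjective b
  rw [← QuotientGroup.mk_mul, ← QuotientGroup.mk_mul, QuotientGroup.eq]
  have h1 := hab y⁻¹ x⁻¹
  have h2 : (x * y)⁻¹ * (y * x) = y⁻¹ * x⁻¹ * y⁻¹⁻¹ * x⁻¹⁻¹ := by group
  rw [h2]; exact h1

theorem sum_subgroup_ite {Kt : Type*} [Group Kt] [Fintype Kt] (N : Subgroup Kt) [Fintype N]
    [DecidablePred (· ∈ N)] (f : Kt → ℂ) :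
    ∑ k : Kt, (if k ∈ N then f k else 0) = ∑ n : N, f n := by
  rw [← Finset.sum_filter]
  exact Finset.sum_subtype (Finset.univ.filter (· ∈ N)) (by simp) f

/-- the norm of the restriction to `N` counts the linear characters of `Kt/N` fixing `χ` -/
theorem norm_restrict_stab {Kt : Type*} [Group Kt] [Fintype Kt] (N : Subgroup Kt) [hN : N.Normal]
    [Fintype N] (hab : ∀ x y : Kt, x * y * x⁻¹ * y⁻¹ ∈ N) (χ : Kt → ℂ)
    [Fintype ((Kt ⧸ N) →* ℂˣ)] :
    Cfsg.classInner (fun h : N => χ h) (fun h : N => χ h)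
      = ∑ μ : (Kt ⧸ N) →* ℂˣ,
          Cfsg.classInner χ (fun k => ((μ (QuotientGroup.mk k) : ℂˣ) : ℂ) * χ k) := by
  classical
  have hcommQ := quot_comm N hab
  unfold Cfsg.classInner
  rw [← Finset.mul_sum, Finset.sum_comm]
  have h1 : ∀ k : Kt, ∑ μ : (Kt ⧸ N) →* ℂˣ,
        χ k * (starRingEnd ℂ) (((μ (QuotientGroup.mk k) : ℂˣ) : ℂ) * χ k)
      = if k ∈ N then (N.index : ℂ) * (χ k * (starRingEnd ℂ) (χ k)) else 0 := by
    intro k
    have h2 : ∀ μ : (Kt ⧸ N) →* ℂˣ,
        χ k * (starRingEnd ℂ) (((μ (QuotientGroup.mk k) : ℂˣ) : ℂ) * χ k)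
        = (χ k * (starRingEnd ℂ) (χ k)) * (((μ ((QuotientGroup.mk k : Kt ⧸ N)⁻¹) : ℂˣ)) : ℂ) := by
      intro μ
      rw [map_mul, hom_conj, MonoidHom.inv_apply, ← map_inv]
      ring
    simp only [h2]
    rw [← Finset.mul_sum, hom_dual_sum hcommQ]
    by_cases hk : k ∈ N
    · rw [if_pos hk, if_pos (by rw [inv_eq_one]; exact (QuotientGroup.eq_one_iff k).mpr hk)]
      rw [Subgroup.index]
      ring
    · rw [if_neg hk, if_neg (by
        rw [inv_eq_one]
        intro h
        exact hk ((QuotientGroup.eq_one_iff k).mp h))]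
      ring
  rw [Finset.sum_congr rfl (fun k _ => h1 k), sum_subgroup_ite N
    (fun k => (N.index : ℂ) * (χ k * (starRingEnd ℂ) (χ k))), ← Finset.mul_sum, ← mul_assoc]
  congr 1
  have h3 : (Nat.card Kt : ℂ) = (Nat.card N : ℂ) * (N.index : ℂ) := by
    rw [← Nat.cast_mul, Subgroup.card_mul_index]
  have hN0 : (Nat.card N : ℂ) ≠ 0 := Nat.cast_ne_zero.mpr Nat.card_pos.ne'
  have hI0 : (N.index : ℂ) ≠ 0 := Nat.cast_ne_zero.mpr (Subgroup.index_ne_zero_of_finite)
  rw [h3]
  field_simp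

/-- if `χ` vanishes off `N`, the norm of its restriction is `[Kt : N]` times its norm -/
theorem norm_restrict_vanish {Kt : Type*} [Group Kt] [Fintype Kt] (N : Subgroup Kt)
    [Fintype N] (χ : Kt → ℂ) (hvan : ∀ k : Kt, k ∉ N → χ k = 0) :
    Cfsg.classInner (fun h : N => χ h) (fun h : N => χ h)
      = (N.index : ℂ) * Cfsg.classInner χ χ := by
  classical
  unfold Cfsg.classInner
  have h1 : ∑ k : Kt, χ k * (starRingEnd ℂ) (χ k)
      = ∑ k : Kt, (if k ∈ N then χ k * (starRingEnd ℂ) (χ k) else 0) := by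
    apply Finset.sum_congr rfl
    intro k _
    by_cases hk : k ∈ N
    · rw [if_pos hk]
    · rw [if_neg hk, hvan k hk, zero_mul]
  rw [h1, sum_subgroup_ite N (fun k => χ k * (starRingEnd ℂ) (χ k)), ← mul_assoc]
  congr 1
  have h3 : (Nat.card Kt : ℂ) = (Nat.card N : ℂ) * (N.index : ℂ) := by
    rw [← Nat.cast_mul, Subgroup.card_mul_index]
  have hN0 : (Nat.card N : ℂ) ≠ 0 := Nat.cast_ne_zero.mpr Nat.card_pos.ne'
  have hI0 : (N.index : ℂ) ≠ 0 := Nat.cast_ne_zero.mpr (Subgroup.index_ne_zero_of_finite)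
  rw [h3]
  field_simp


section GD

variable {Kt : Type*} [Group Kt] [Fintype Kt] (N : Subgroup Kt) [hN : N.Normal] [Fintype N]

/-- if the non-vanishing set of `χ` together with `N` generates, the restriction is irreducible -/
theorem gd_irr_of_gen (hab : ∀ x y : Kt, x * y * x⁻¹ * y⁻¹ ∈ N) (χ : Kt → ℂ)
    (hχ : Cfsg.IsIrrCharacter Kt χ)
    (hV : Subgroup.closure ({k | χ k ≠ 0} ∪ (N : Set Kt)) = ⊤) :
    Cfsg.IsIrrCharacter N (fun h : N => χ h) := by
  classical
  have hcommQ := quot_comm N hab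
  haveI : Finite ((Kt ⧸ N) →* ℂˣ) := finite_hom hcommQ
  haveI : Fintype ((Kt ⧸ N) →* ℂˣ) := Fintype.ofFinite _
  apply Lead.isIrrCharacter_of_norm_one
    (Lead.isCharacter_restrict N (Lead.isCharacter_of_irr hχ))
  rw [norm_restrict_stab N hab χ]
  rw [Finset.sum_eq_single (1 : (Kt ⧸ N) →* ℂˣ)]
  · simp only [MonoidHom.one_apply, Units.val_one, one_mul]
    exact Lead.irr_inner_self ⟨χ, hχ⟩
  · intro μ _ hμ
    have hirr : Cfsg.IsIrrCharacter Kt
        (fun k => ((μ (QuotientGroup.mk k) : ℂˣ) : ℂ) * χ k) := by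
      have h1 := Helper8.isIrrCharacter_of_hom8 (μ.comp (QuotientGroup.mk' N))
      exact Helper7.LT.irr_linear_twist ⟨_, h1⟩ ⟨χ, hχ⟩ (by simp)
    have hne : (⟨χ, hχ⟩ : Cfsg.IrrCharacter Kt) ≠ ⟨_, hirr⟩ := by
      intro heq
      apply hμ
      have h2 : ∀ k, ((μ (QuotientGroup.mk k) : ℂˣ) : ℂ) * χ k = χ k :=
        fun k => (congrFun (congrArg Subtype.val heq) k).symm
      have h3 : Subgroup.closure ({k | χ k ≠ 0} ∪ (N : Set Kt))
          ≤ (μ.comp (QuotientGroup.mk' N)).ker := by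
        rw [Subgroup.closure_le]
        rintro k (hk | hk)
        · rw [SetLike.mem_coe, MonoidHom.mem_ker]
          have h4 : (((μ (QuotientGroup.mk k) : ℂˣ) : ℂ) - 1) * χ k = 0 := by
            linear_combination h2 k
          rcases mul_eq_zero.mp h4 with h5 | h5
          · apply Units.ext
            simp only [MonoidHom.comp_apply, QuotientGroup.mk'_apply, Units.val_one]
            linear_combination h5
          · exact absurd h5 hk
        · rw [SetLike.mem_coe, MonoidHom.mem_ker, MonoidHom.comp_apply, QuotientGroup.mk'_apply,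
            (QuotientGroup.eq_one_iff k).mpr hk, map_one]
      rw [hV] at h3
      apply MonoidHom.ext
      intro q
      obtain ⟨k, rfl⟩ := QuotientGroup.mk_surjective q
      have h6 := h3 (Subgroup.mem_top k)
      rw [MonoidHom.mem_ker, MonoidHom.comp_apply, QuotientGroup.mk'_apply] at h6
      rw [h6, MonoidHom.one_apply]
    exact Lead.irr_inner_ne hne
  · intro h; exact absurd (Finset.mem_univ _) h

/-- the restriction of an automorphism stabilising `N` -/
def gdRes (f : Kt ≃* Kt) (hfN : ∀ n ∈ N, f n ∈ N) : N →* N where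
  toFun n := ⟨f n, hfN n n.2⟩
  map_one' := Subtype.ext (by simp)
  map_mul' a b := Subtype.ext (by simp)

omit [Fintype Kt] hN in
theorem gdRes_bij (f : Kt ≃* Kt) (hfN : ∀ n ∈ N, f n ∈ N) :
    Function.Bijective (gdRes N f hfN) := by
  apply Finite.injective_iff_bijective.mp
  intro a b hab
  apply Subtype.ext
  exact f.injective (congrArg Subtype.val hab)

omit [Fintype Kt] hN in
theorem gd_inner_act (χ : Kt → ℂ) (f : Kt ≃* Kt) (hfN : ∀ n ∈ N, f n ∈ N)
    (hfχ : ∀ k, χ (f k) = χ k) (ψ : N → ℂ) :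
    Cfsg.classInner (fun h : N => χ h) (fun n : N => ψ (gdRes N f hfN n))
      = Cfsg.classInner (fun h : N => χ h) ψ := by
  unfold Cfsg.classInner
  congr 1
  apply Fintype.sum_equiv (Equiv.ofBijective _ (gdRes_bij N f hfN))
  intro n
  show χ (n : Kt) * _ = χ (f n) * _
  rw [hfχ]
  rfl

/-- "going down" for an invariant irreducible character over an abelian chief factor -/
theorem going_down_K (hab : ∀ x y : Kt, x * y * x⁻¹ * y⁻¹ ∈ N) (χ : Kt → ℂ)
    (hχ : Cfsg.IsIrrCharacter Kt χ) {Γ : Type*} (act : Γ → (Kt ≃* Kt))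
    (hNact : ∀ γ n, n ∈ N → act γ n ∈ N) (hχinv : ∀ γ k, χ (act γ k) = χ k)
    (hchief : ∀ M : Subgroup Kt, N ≤ M → (∀ γ, ∀ k ∈ M, act γ k ∈ M) → M = N ∨ M = ⊤) :
    Cfsg.IsIrrCharacter N (fun h : N => χ h) ∨
    (∃ (φ : N → ℂ) (e : ℕ), Cfsg.IsIrrCharacter N φ ∧ (fun h : N => χ h) = (e : ℂ) • φ ∧
      e ^ 2 = N.index) ∨
    (∃ F : Finset (N → ℂ), (∀ φ ∈ F, Cfsg.IsIrrCharacter N φ) ∧ F.card = N.index ∧
      (fun h : N => χ h) = ∑ φ ∈ F, φ) := by
  classical
  have hV := hchief (Subgroup.closure ({k | χ k ≠ 0} ∪ (N : Set Kt)))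
    (fun n hn => Subgroup.subset_closure (Or.inr hn))
    (by
      intro γ k hk
      have h1 : Subgroup.closure ({k | χ k ≠ 0} ∪ (N : Set Kt))
          ≤ (Subgroup.closure ({k | χ k ≠ 0} ∪ (N : Set Kt))).comap (act γ).toMonoidHom := by
        rw [Subgroup.closure_le]
        rintro x (hx | hx)
        · apply Subgroup.subset_closure
          left
          show χ (act γ x) ≠ 0
          rw [hχinv]
          exact hx
        · apply Subgroup.subset_closure
          right
          exact hNact γ x hx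
      exact h1 hk)
  rcases hV with hV | hV
  swap
  · left
    exact gd_irr_of_gen N hab χ hχ hV
  right
  have hvan : ∀ k, k ∉ N → χ k = 0 := by
    intro k hk
    by_contra h0
    apply hk
    rw [← hV]
    exact Subgroup.subset_closure (Or.inl h0)
  have hI0 : (N.index : ℂ) ≠ 0 := Nat.cast_ne_zero.mpr (Subgroup.index_ne_zero_of_finite)
  haveI : Fintype (Cfsg.IrrCharacter N) := Fintype.ofFinite _
  have hrc : Cfsg.IsClassFunction N (fun h : N => χ h) :=
    Helper7.Cliff.isClassFunction_restrict N χ (Lead.isClassFunction_of_irr ⟨χ, hχ⟩)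
  have hrchar : Cfsg.IsCharacter N (fun h : N => χ h) :=
    Lead.isCharacter_restrict N (Lead.isCharacter_of_irr hχ)
  have hnorm : Cfsg.classInner (fun h : N => χ h) (fun h : N => χ h) = (N.index : ℂ) := by
    rw [norm_restrict_vanish N χ hvan, Lead.irr_inner_self ⟨χ, hχ⟩, mul_one]
  have hexp := Lead.class_fn_expand' (fun h : N => χ h) hrc
  have hr0 : (fun h : N => χ h) ≠ 0 := by
    intro h0
    rw [h0, Lead.classInner_zero_left] at hnorm
    exact hI0 hnorm.symm
  obtain ⟨φ, hφ⟩ := Helper7.Cliff.exists_constituent (fun h : N => χ h) hrc hr0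
  obtain ⟨m, hm⟩ := Lead.classInner_char_nat hrchar (Lead.isCharacter_of_irr φ.2)
  have hconj : ∀ ψ : Cfsg.IrrCharacter N, Cfsg.classInner (fun h : N => χ h) ψ.1 ≠ 0 →
      ∃ x : Kt, ψ.1 = Lead.conjFun N φ.1 x :=
    fun ψ hψ => Helper7.Cliff.exists_conj_of_constituents N ⟨χ, hχ⟩ φ ψ hφ hψ
  have hmult : ∀ x : Kt,
      Cfsg.classInner (fun h : N => χ h) (Lead.conjFun N φ.1 x) = (m : ℂ) := fun x => by
    rw [← hm]
    exact Helper7.Cliff.inner_restrict_conjFun N χ (Lead.isClassFunction_of_irr ⟨χ, hχ⟩) φ.1 x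
  have hclassN : ∀ (ψ : Cfsg.IrrCharacter N) (n : Kt), n ∈ N → Lead.conjFun N ψ.1 n = ψ.1 := by
    intro ψ n hn
    funext h
    rw [Lead.conjFun_apply]
    exact Lead.isClassFunction_of_irr ψ h ⟨n, hn⟩
  let T' : Subgroup Kt :=
    { carrier := {k | ∀ ψ : Cfsg.IrrCharacter N, Cfsg.classInner (fun h : N => χ h) ψ.1 ≠ 0 →
        Lead.conjFun N ψ.1 k = ψ.1}
      mul_mem' := by
        intro a b ha hb ψ hψ
        rw [← Lead.conjFun_mul, ha ψ hψ, hb ψ hψ]
      one_mem' := by
        intro ψ _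
        exact Lead.conjFun_one N ψ.1
      inv_mem' := by
        intro a ha ψ hψ
        have h1 := Lead.conjFun_mul N ψ.1 a a⁻¹
        rw [ha ψ hψ, mul_inv_cancel, Lead.conjFun_one] at h1
        exact h1 }
  have hT'mem : ∀ k : Kt, k ∈ T' ↔ ∀ ψ : Cfsg.IrrCharacter N,
      Cfsg.classInner (fun h : N => χ h) ψ.1 ≠ 0 → Lead.conjFun N ψ.1 k = ψ.1 := fun k => Iff.rfl
  have hT := hchief T' (fun n hn ψ _ => hclassN ψ n hn)
    (by
      intro γ k hk ψ hψ
      have hfN : ∀ n ∈ N, act γ n ∈ N := fun n hn => hNact γ n hn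
      have hirr : Cfsg.IsIrrCharacter N (fun n : N => ψ.1 (gdRes N (act γ) hfN n)) :=
        Lead.isIrrCharacter_comp_surj (gdRes N (act γ) hfN) (gdRes_bij N (act γ) hfN).2 ψ.2
      have hcons : Cfsg.classInner (fun h : N => χ h)
          (fun n : N => ψ.1 (gdRes N (act γ) hfN n)) ≠ 0 := by
        rw [gd_inner_act N χ (act γ) hfN (hχinv γ) ψ.1]
        exact hψ
      have h1 := hk ⟨_, hirr⟩ hcons
      funext h
      obtain ⟨h', rfl⟩ := (gdRes_bij N (act γ) hfN).2 h
      have h2 := congrFun h1 h'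
      rw [Lead.conjFun_apply] at h2 ⊢
      rw [← h2]
      show ψ.1 _ = ψ.1 (gdRes N (act γ) hfN _)
      apply congrArg ψ.1
      apply Subtype.ext
      show act γ k * act γ h' * (act γ k)⁻¹ = act γ (k * h' * k⁻¹)
      rw [map_mul, map_mul, map_inv])
  rcases hT with hT | hT
  swap
  · -- all constituents are invariant: `e • φ`
    left
    have hall : ∀ ψ : Cfsg.IrrCharacter N, ψ ≠ φ →
        Cfsg.classInner (fun h : N => χ h) ψ.1 = 0 := by
      intro ψ hne
      by_contra h0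
      obtain ⟨x, hx⟩ := hconj ψ h0
      apply hne
      apply Subtype.ext
      rw [hx]
      have hxT : x ∈ T' := by rw [hT]; exact Subgroup.mem_top x
      exact hxT φ hφ
    have hrφ : (fun h : N => χ h) = (m : ℂ) • φ.1 := by
      refine hexp.trans ?_
      rw [Finset.sum_eq_single φ (fun ψ _ hne => by rw [hall ψ hne, zero_smul])
        (fun h => absurd (Finset.mem_univ _) h), hm]
    refine ⟨φ.1, m, φ.2, hrφ, ?_⟩
    have h1 : Cfsg.classInner (fun h : N => χ h) (fun h : N => χ h)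
        = Cfsg.classInner (fun h : N => χ h) ((m : ℂ) • φ.1) :=
      congrArg (Cfsg.classInner (fun h : N => χ h)) hrφ
    rw [hnorm, Lead.classInner_smul_right, hm, Complex.conj_natCast] at h1
    have h2 : (N.index : ℂ) = ((m ^ 2 : ℕ) : ℂ) := by
      rw [h1]; push_cast; ring
    exact (Nat.cast_injective h2).symm
  · -- the stabiliser of `φ` is `N`: a full orbit
    right
    have hstab : ∀ k : Kt, Lead.conjFun N φ.1 k = φ.1 → k ∈ N := by
      intro k hk
      rw [← hT, hT'mem]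
      intro ψ hψ
      obtain ⟨x, hx⟩ := hconj ψ hψ
      rw [hx, Lead.conjFun_mul]
      have hc : x * k = (x * k * x⁻¹ * k⁻¹) * k * x := by group
      rw [hc, ← Lead.conjFun_mul, ← Lead.conjFun_mul, hclassN φ _ (hab x k), hk]
    let c : Kt ⧸ N → Cfsg.IrrCharacter N := fun q =>
      ⟨Lead.conjFun N φ.1 q.out, Lead.isIrrCharacter_conjFun N φ.2 q.out⟩
    have hcinj : Function.Injective c := by
      intro q q' hqq
      have h1 : Lead.conjFun N φ.1 q.out = Lead.conjFun N φ.1 q'.out := congrArg Subtype.val hqq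
      have h2 : Lead.conjFun N φ.1 (q.out * q'.out⁻¹) = φ.1 := by
        rw [← Lead.conjFun_mul, h1, Lead.conjFun_mul, mul_inv_cancel, Lead.conjFun_one]
      have h3 := hstab _ h2
      rw [← QuotientGroup.out_eq' q, ← QuotientGroup.out_eq' q', QuotientGroup.eq]
      have h4 := N.inv_mem h3
      rw [mul_inv_rev, inv_inv] at h4
      exact (hN.mem_comm_iff).mp h4
    have hF'card : (Finset.univ.image c).card = N.index := by
      rw [Finset.card_image_of_injective _ hcinj, Finset.card_univ, Subgroup.index,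
        Nat.card_eq_fintype_card]
    have hinF : ∀ ψ ∈ Finset.univ.image c,
        Cfsg.classInner (fun h : N => χ h) ψ.1 = (m : ℂ) := by
      intro ψ hψ
      obtain ⟨q, -, rfl⟩ := Finset.mem_image.mp hψ
      exact hmult q.out
    have hnotF : ∀ ψ : Cfsg.IrrCharacter N, ψ ∉ Finset.univ.image c →
        Cfsg.classInner (fun h : N => χ h) ψ.1 = 0 := by
      intro ψ hψ
      by_contra h0
      obtain ⟨x, hx⟩ := hconj ψ h0
      apply hψ
      apply Finset.mem_image.mpr
      refine ⟨(x : Kt ⧸ N), Finset.mem_univ _, ?_⟩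
      apply Subtype.ext
      show Lead.conjFun N φ.1 (x : Kt ⧸ N).out = ψ.1
      rw [hx]
      obtain ⟨n, hn⟩ := QuotientGroup.mk_out_eq_mul N x
      rw [hn, ← Lead.conjFun_mul]
      exact hclassN ⟨_, Lead.isIrrCharacter_conjFun N φ.2 x⟩ n n.2
    have hrsum : (fun h : N => χ h) = (m : ℂ) • ∑ ψ ∈ Finset.univ.image c, ψ.1 := by
      refine hexp.trans ?_
      rw [← Finset.sum_subset (Finset.subset_univ (Finset.univ.image c))
        (fun ψ _ hψ => by rw [hnotF ψ hψ, zero_smul]), Finset.smul_sum]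
      exact Finset.sum_congr rfl (fun ψ hψ => by rw [hinF ψ hψ])
    have hm1 : m = 1 := by
      have h1 : Cfsg.classInner (fun h : N => χ h) (fun h : N => χ h)
          = Cfsg.classInner (fun h : N => χ h) ((m : ℂ) • ∑ ψ ∈ Finset.univ.image c, ψ.1) :=
        congrArg (Cfsg.classInner (fun h : N => χ h)) hrsum
      rw [hnorm, Lead.classInner_smul_right, Lead.classInner_sum_right,
        Finset.sum_congr rfl hinF, Finset.sum_const, hF'card, Complex.conj_natCast,
        nsmul_eq_mul] at h1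
      have h2 : (N.index : ℂ) * 1 = (N.index : ℂ) * ((m : ℂ) * (m : ℂ)) := by
        linear_combination h1
      have h3 := mul_left_cancel₀ hI0 h2
      have h4 : m * m = 1 := by exact_mod_cast h3.symm
      exact Nat.eq_one_of_mul_eq_one_left h4
    refine ⟨(Finset.univ.image c).image Subtype.val, ?_, ?_, ?_⟩
    · intro f hf
      obtain ⟨ψ, -, rfl⟩ := Finset.mem_image.mp hf
      exact ψ.2
    · rw [Finset.card_image_of_injective _ Subtype.val_injective, hF'card]
    · rw [Finset.sum_image (fun a _ b _ h => Subtype.val_injective h), hrsum, hm1,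
        Nat.cast_one, one_smul]

end GD

end Cfsg.Agent.Lib.Helper6
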