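import Mathlib
import Cfsg.Agent.Lib.Helper6.NilpComm

/-!
Hypercentral `p`-elements commute with `p'`-elements.
-/

set_option autoImplicit false

namespace Cfsg.Agent.Lib.Helper6

open scoped commutatorElement

/-- the upper central series of the ambient group restricts into that of a subgroup -/
theorem mem_upperCentralSeries_subgroup {G : Type*} [Group G] (K : Subgroup G) :
    ∀ (i : ℕ) (y : ↥K), (y : G) ∈ Subgroup.upperCentralSeries G i →
      y ∈ Subgroup.upperCentralSeries ↥K i := by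
  intro i
  induction i with
  | zero =>
    intro y hy
    rw [Subgroup.upperCentralSeries_zero, Subgroup.mem_bot] at hy ⊢
    exact Subtype.ext hy
  | succ i ih =>
    intro y hy
    rw [Subgroup.mem_upperCentralSeries_succ_iff] at hy ⊢
    intro k
    apply ih
    have e : ((⁅y, k⁆ : ↥K) : G) = ⁅(y : G), (k : G)⁆ := by
      rw [commutatorElement_def, commutatorElement_def]; simp
    rw [e]
    exact hy k

/-- a cyclic extension of a hypercentral subgroup is nilpotent -/
theorem isNilpotent_zpowers_upperCentralSeries {G : Type*} [Group G] (n : ℕ) (a : G) :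
    ∃ K : Subgroup G, Group.IsNilpotent ↥K ∧ a ∈ K ∧ Subgroup.upperCentralSeries G n ≤ K := by
  obtain ⟨Z, hZ⟩ : ∃ Z : Subgroup G, Z = Subgroup.upperCentralSeries G n := ⟨_, rfl⟩
  haveI hZn : Z.Normal := by rw [hZ]; infer_instance
  rw [← hZ]
  refine ⟨(Subgroup.zpowers (QuotientGroup.mk' Z a)).comap (QuotientGroup.mk' Z), ?_, ?_, ?_⟩
  · refine ⟨⟨n + 1, ?_⟩⟩
    rw [eq_top_iff]
    intro y _
    rw [Subgroup.mem_upperCentralSeries_succ_iff]
    intro k
    apply mem_upperCentralSeries_subgroup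
    have e : ((⁅y, k⁆ : ↥((Subgroup.zpowers (QuotientGroup.mk' Z a)).comap (QuotientGroup.mk' Z))) : G)
        = ⁅(y : G), (k : G)⁆ := by
      rw [commutatorElement_def, commutatorElement_def]; rfl
    rw [e, ← hZ, ← QuotientGroup.eq_one_iff]
    obtain ⟨i, hi⟩ := Subgroup.mem_zpowers_iff.mp (Subgroup.mem_comap.mp y.2)
    obtain ⟨j, hj⟩ := Subgroup.mem_zpowers_iff.mp (Subgroup.mem_comap.mp k.2)
    have hy' : ((y : G) : G ⧸ Z) = (QuotientGroup.mk' Z a) ^ i := hi.symm
    have hk' : ((k : G) : G ⧸ Z) = (QuotientGroup.mk' Z a) ^ j := hj.symm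
    rw [commutatorElement_def]
    have e2 : (((y : G) * (k : G) * (y : G)⁻¹ * (k : G)⁻¹ : G) : G ⧸ Z)
        = ((y : G) : G ⧸ Z) * ((k : G) : G ⧸ Z) * ((y : G) : G ⧸ Z)⁻¹ * ((k : G) : G ⧸ Z)⁻¹ := by
      simp
    rw [e2, hy', hk', ← zpow_add, add_comm, zpow_add]
    group
  · rw [Subgroup.mem_comap]
    exact Subgroup.mem_zpowers _
  · intro z hz
    rw [Subgroup.mem_comap]
    have : QuotientGroup.mk' Z z = 1 := (QuotientGroup.eq_one_iff z).mpr hz
    rw [this]
    exact one_mem _

/-- hypercentral `p`-elements commute with `p'`-elements -/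
theorem commute_of_mem_upperCentralSeries {G : Type*} [Group G] [Finite G] {p : ℕ} [Fact p.Prime]
    (n : ℕ) {x a : G} (hx : x ∈ Subgroup.upperCentralSeries G n) {i : ℕ}
    (hxo : orderOf x = p ^ i) (ha : (orderOf a).Coprime p) : x * a = a * x := by
  obtain ⟨K, hK, haK, hZK⟩ := isNilpotent_zpowers_upperCentralSeries n a
  have h := commute_of_pelt_of_coprime hK (u := (⟨x, hZK hx⟩ : ↥K)) (v := ⟨a, haK⟩) (i := i)
    (by rw [Subgroup.orderOf_mk]; exact hxo) (by rw [Subgroup.orderOf_mk]; exact ha)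
  exact congrArg Subtype.val h.eq

end Cfsg.Agent.Lib.Helper6
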