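import Mathlib
import Cfsg.Prelude.Def_Blocks
import Cfsg.Agent.Lib.Helper7.Clifford
import Cfsg.Agent.Lib.Helper6.Coh

/-!
# Central characters and constituents of the restriction to a normal subgroup
-/

set_option autoImplicit false

namespace Cfsg.Agent.Lib.Helper6

open Cfsg.Agent.Lib

section icc

variable {G : Type*} [Group G] [Fintype G] (N : Subgroup G) [hN : N.Normal] [Fintype N]

omit hN in
/-- the induced central character in terms of the induced class function -/
theorem icc_formula (θ : N → ℂ) (g : G) :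
    Cfsg.inducedCentralChar N θ g = (θ 1)⁻¹ * ((Nat.card N : ℂ) / (Nat.card G : ℂ))
      * ((Subgroup.centralizer ({g} : Set G)).index : ℂ) * Cfsg.indFun N θ g := by
  classical
  have hcl : Cfsg.IsClassFunction G (fun x => if IsConj g x then (1 : ℂ) else 0) :=
    Lead.isClassFunction_conjInd g
  have hrec := Lead.frobenius_reciprocity N θ (fun x => if IsConj g x then (1 : ℂ) else 0) hcl
  unfold Cfsg.classInner at hrec
  have h1 : ∑ x : G, Cfsg.indFun N θ x * (starRingEnd ℂ) (if IsConj g x then (1 : ℂ) else 0)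
      = ((Subgroup.centralizer ({g} : Set G)).index : ℂ) * Cfsg.indFun N θ g := by
    rw [← Lead.sum_conjInd_mul g (Cfsg.indFun N θ) (Lead.indFun_isClassFunction N θ)]
    apply Finset.sum_congr rfl
    intro x _
    by_cases hx : IsConj g x
    · rw [if_pos hx, map_one]; ring
    · rw [if_neg hx, map_zero]; ring
  rw [h1] at hrec
  have h2 : Cfsg.inducedCentralChar N θ g = (θ 1)⁻¹ * ∑ h : N, θ h
      * (starRingEnd ℂ) (if IsConj g (h : G) then (1 : ℂ) else 0) := by
    unfold Cfsg.inducedCentralChar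
    rw [finsum_mem_def, finsum_eq_sum_of_fintype, Finset.mul_sum]
    apply Finset.sum_congr rfl
    intro h _
    by_cases hx : IsConj g (h : G)
    · rw [Set.indicator_of_mem (by exact hx), if_pos hx, map_one, mul_one, div_eq_inv_mul]
    · rw [Set.indicator_of_notMem (by exact hx), if_neg hx, map_zero, mul_zero, mul_zero]
  have hN0 : (Nat.card N : ℂ) ≠ 0 := by exact_mod_cast Nat.card_pos.ne'
  have hG0 : (Nat.card G : ℂ) ≠ 0 := by exact_mod_cast Nat.card_pos.ne'
  have h3 : ∑ h : N, θ h * (starRingEnd ℂ) (if IsConj g (h : G) then (1 : ℂ) else 0)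
      = (Nat.card N : ℂ) * ((Nat.card G : ℂ)⁻¹
        * (((Subgroup.centralizer ({g} : Set G)).index : ℂ) * Cfsg.indFun N θ g)) := by
    rw [hrec, ← mul_assoc, mul_inv_cancel₀ hN0, one_mul]
  rw [h2, h3]
  field_simp

/-- Clifford: two irreducible characters over the same character of `N` have proportional
restrictions -/
theorem cliff_prop (ψ χ : Cfsg.IrrCharacter G) (θ : Cfsg.IrrCharacter N)
    (hψ : Cfsg.classInner (fun h : N => ψ.1 h) θ.1 ≠ 0)
    (hχ : Cfsg.classInner (fun h : N => χ.1 h) θ.1 ≠ 0) (n : N) :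
    χ.1 1 * ψ.1 n = ψ.1 1 * χ.1 n := by
  classical
  haveI : Fintype (Cfsg.IrrCharacter N) := Fintype.ofFinite _
  have hcoef : ∀ η : Cfsg.IrrCharacter N,
      Cfsg.classInner (fun h : N => χ.1 h) θ.1 * Cfsg.classInner (fun h : N => ψ.1 h) η.1
        = Cfsg.classInner (fun h : N => ψ.1 h) θ.1 * Cfsg.classInner (fun h : N => χ.1 h) η.1 := by
    intro η
    by_cases hη : ∃ x : G, η.1 = Lead.conjFun N θ.1 x
    · obtain ⟨x, hx⟩ := hη
      rw [hx, Helper7.Cliff.inner_restrict_conjFun N ψ.1 (Lead.isClassFunction_of_irr ψ) θ.1 x,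
        Helper7.Cliff.inner_restrict_conjFun N χ.1 (Lead.isClassFunction_of_irr χ) θ.1 x, mul_comm]
    · have h1 : Cfsg.classInner (fun h : N => ψ.1 h) η.1 = 0 := by
        by_contra hne
        exact hη (Helper7.Cliff.exists_conj_of_constituents N ψ θ η hψ hne)
      have h2 : Cfsg.classInner (fun h : N => χ.1 h) η.1 = 0 := by
        by_contra hne
        exact hη (Helper7.Cliff.exists_conj_of_constituents N χ θ η hχ hne)
      rw [h1, h2, mul_zero, mul_zero]
  have hexpψ := Lead.class_fn_expand' (fun h : N => ψ.1 h)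
    (Helper7.Cliff.isClassFunction_restrict N ψ.1 (Lead.isClassFunction_of_irr ψ))
  have hexpχ := Lead.class_fn_expand' (fun h : N => χ.1 h)
    (Helper7.Cliff.isClassFunction_restrict N χ.1 (Lead.isClassFunction_of_irr χ))
  have key : ∀ m : N, Cfsg.classInner (fun h : N => χ.1 h) θ.1 * ψ.1 m
      = Cfsg.classInner (fun h : N => ψ.1 h) θ.1 * χ.1 m := by
    intro m
    have a : ψ.1 m = ∑ η : Cfsg.IrrCharacter N,
        Cfsg.classInner (fun h : N => ψ.1 h) η.1 * η.1 m := by
      have a' := congrFun hexpψ m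
      rw [Finset.sum_apply] at a'
      exact a'
    have b : χ.1 m = ∑ η : Cfsg.IrrCharacter N,
        Cfsg.classInner (fun h : N => χ.1 h) η.1 * η.1 m := by
      have b' := congrFun hexpχ m
      rw [Finset.sum_apply] at b'
      exact b'
    rw [a, b, Finset.mul_sum, Finset.mul_sum]
    apply Finset.sum_congr rfl
    intro η _
    rw [← mul_assoc, ← mul_assoc, hcoef η]
  have k1 := key 1
  have kn := key n
  rw [Subgroup.coe_one] at k1
  have h5 : Cfsg.classInner (fun h : N => χ.1 h) θ.1 * (χ.1 1 * ψ.1 n - ψ.1 1 * χ.1 n) = 0 := by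
    linear_combination χ.1 1 * kn - χ.1 n * k1
  rcases mul_eq_zero.mp h5 with h | h
  · exact absurd h hχ
  · exact sub_eq_zero.mp h

/-- on `N`, the character induced from a constituent of `χ_N` is proportional to `χ` -/
theorem ind_prop (χ : Cfsg.IrrCharacter G) (θ : Cfsg.IrrCharacter N)
    (hχ : Cfsg.classInner (fun h : N => χ.1 h) θ.1 ≠ 0) (n : N) :
    χ.1 1 * Cfsg.indFun N θ.1 n = χ.1 n * Cfsg.indFun N θ.1 1 := by
  classical
  haveI : Fintype (Cfsg.IrrCharacter G) := Fintype.ofFinite _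
  have hexp := Lead.class_fn_expand' (Cfsg.indFun N θ.1) (Lead.indFun_isClassFunction N θ.1)
  have a : Cfsg.indFun N θ.1 n = ∑ ψ : Cfsg.IrrCharacter G,
      Cfsg.classInner (Cfsg.indFun N θ.1) ψ.1 * ψ.1 n := by
    have a' := congrFun hexp (n : G)
    rw [Finset.sum_apply] at a'
    exact a'
  have b : Cfsg.indFun N θ.1 1 = ∑ ψ : Cfsg.IrrCharacter G,
      Cfsg.classInner (Cfsg.indFun N θ.1) ψ.1 * ψ.1 1 := by
    have b' := congrFun hexp 1
    rw [Finset.sum_apply] at b'
    exact b'
  rw [a, b, Finset.mul_sum, Finset.mul_sum]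
  apply Finset.sum_congr rfl
  intro ψ _
  by_cases h0 : Cfsg.classInner (Cfsg.indFun N θ.1) ψ.1 = 0
  · rw [h0]; ring
  · have hψ : Cfsg.classInner (fun h : N => ψ.1 h) θ.1 ≠ 0 := by
      intro h
      apply h0
      rw [Lead.frobenius_reciprocity N θ.1 ψ.1 (Lead.isClassFunction_of_irr ψ),
        ← Lead.classInner_conj_symm, h, map_zero]
    have h6 := cliff_prop N ψ χ θ hψ hχ n
    linear_combination (Cfsg.classInner (Cfsg.indFun N θ.1) ψ.1) * h6

/-- a constituent of `χ_N` has induced central character equal to the central character of `χ` -/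
theorem icc_of_constituent (χ : Cfsg.IrrCharacter G) (θ : Cfsg.IrrCharacter N)
    (hχ : Cfsg.classInner (fun h : N => χ.1 h) θ.1 ≠ 0) (n : N) :
    Cfsg.centralChar χ.1 (n : G) = Cfsg.inducedCentralChar N θ.1 (n : G) := by
  rw [icc_formula]
  unfold Cfsg.centralChar
  have h1 := ind_prop N χ θ hχ n
  rw [Lead.indFun_one_eq N θ.1, ← Nat.card_eq_fintype_card] at h1
  have hχ1 : χ.1 1 ≠ 0 := Lead.irr_deg_ne_zero χ
  have hθ1 : θ.1 1 ≠ 0 := Lead.irr_deg_ne_zero θ
  have hN0 : (Nat.card N : ℂ) ≠ 0 := by exact_mod_cast Nat.card_pos.ne'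
  have hG0 : (Nat.card G : ℂ) ≠ 0 := by exact_mod_cast Nat.card_pos.ne'
  have h3 : Cfsg.indFun N θ.1 n
      = χ.1 n * ((Nat.card N : ℂ)⁻¹ * ((Nat.card G : ℂ) * θ.1 1)) / χ.1 1 := by
    rw [← h1]
    field_simp
  rw [h3]
  field_simp

/-- conversely, a character of `N` with the right induced central character is a constituent -/
theorem constituent_of_icc (χ : Cfsg.IrrCharacter G) (θ : Cfsg.IrrCharacter N)
    (h : ∀ n : N, Cfsg.centralChar χ.1 (n : G) = Cfsg.inducedCentralChar N θ.1 (n : G)) :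
    Cfsg.classInner (fun h : N => χ.1 h) θ.1 ≠ 0 := by
  classical
  haveI : Fintype (Cfsg.IrrCharacter G) := Fintype.ofFinite _
  intro h0
  have hres_ne : (fun h : N => χ.1 h) ≠ 0 := by
    intro e
    have e1 := congrFun e 1
    exact Lead.irr_deg_ne_zero χ e1
  obtain ⟨θ', hθ'⟩ := Helper7.Cliff.exists_constituent (fun h : N => χ.1 h)
    (Helper7.Cliff.isClassFunction_restrict N χ.1 (Lead.isClassFunction_of_irr χ)) hres_ne
  have hθ1 : θ.1 1 ≠ 0 := Lead.irr_deg_ne_zero θ
  have hθ'1 : θ'.1 1 ≠ 0 := Lead.irr_deg_ne_zero θ'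
  have hN0 : (Nat.card N : ℂ) ≠ 0 := by exact_mod_cast Nat.card_pos.ne'
  have hG0 : (Nat.card G : ℂ) ≠ 0 := by exact_mod_cast Nat.card_pos.ne'
  have heq : ∀ n : N, Cfsg.indFun N θ.1 n * θ'.1 1 = Cfsg.indFun N θ'.1 n * θ.1 1 := by
    intro n
    have e1 := h n
    rw [icc_of_constituent N χ θ' hθ' n, icc_formula, icc_formula] at e1
    have hidx : ((Subgroup.centralizer ({(n : G)} : Set G)).index : ℂ) ≠ 0 := by
      exact_mod_cast Subgroup.index_ne_zero_of_finite
    have e2 : (((Nat.card N : ℂ) / (Nat.card G : ℂ))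
          * ((Subgroup.centralizer ({(n : G)} : Set G)).index : ℂ))
          * ((θ'.1 1)⁻¹ * Cfsg.indFun N θ'.1 n)
        = (((Nat.card N : ℂ) / (Nat.card G : ℂ))
          * ((Subgroup.centralizer ({(n : G)} : Set G)).index : ℂ))
          * ((θ.1 1)⁻¹ * Cfsg.indFun N θ.1 n) := by
      linear_combination e1
    have e3 := mul_left_cancel₀ (mul_ne_zero (div_ne_zero hN0 hG0) hidx) e2
    rw [inv_mul_eq_iff_eq_mul₀ hθ'1] at e3
    rw [e3]
    field_simp
  have hinner : Cfsg.classInner (fun n : N => Cfsg.indFun N θ.1 n) θ.1 * θ'.1 1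
      = Cfsg.classInner (fun n : N => Cfsg.indFun N θ'.1 n) θ.1 * θ.1 1 := by
    unfold Cfsg.classInner
    rw [mul_assoc, mul_assoc, Finset.sum_mul, Finset.sum_mul]
    congr 1
    apply Finset.sum_congr rfl
    intro n _
    have e := heq n
    linear_combination ((starRingEnd ℂ) (θ.1 n)) * e
  have hcl : Cfsg.IsClassFunction G (Cfsg.indFun N θ.1) := Lead.indFun_isClassFunction N θ.1
  have hcl' : Cfsg.IsClassFunction G (Cfsg.indFun N θ'.1) := Lead.indFun_isClassFunction N θ'.1
  have hL : Cfsg.classInner (fun n : N => Cfsg.indFun N θ.1 n) θ.1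
      = (starRingEnd ℂ) (Cfsg.classInner (Cfsg.indFun N θ.1) (Cfsg.indFun N θ.1)) := by
    rw [Lead.frobenius_reciprocity N θ.1 _ hcl, Lead.classInner_conj_symm]
  have hR : Cfsg.classInner (fun n : N => Cfsg.indFun N θ'.1 n) θ.1
      = (starRingEnd ℂ) (Cfsg.classInner (Cfsg.indFun N θ.1) (Cfsg.indFun N θ'.1)) := by
    rw [Lead.frobenius_reciprocity N θ.1 _ hcl', Lead.classInner_conj_symm]
  have hzero : Cfsg.classInner (Cfsg.indFun N θ.1) (Cfsg.indFun N θ'.1) = 0 := by
    have hexp := Lead.class_fn_expand' (Cfsg.indFun N θ'.1) hcl'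
    rw [hexp, Lead.classInner_sum_right]
    apply Finset.sum_eq_zero
    intro ψ _
    rw [Lead.classInner_smul_right]
    by_cases ha : Cfsg.classInner (Cfsg.indFun N θ.1) ψ.1 = 0
    · rw [ha, mul_zero]
    · by_cases hb : Cfsg.classInner (Cfsg.indFun N θ'.1) ψ.1 = 0
      · rw [hb, map_zero, zero_mul]
      · exfalso
        have hψθ : Cfsg.classInner (fun h : N => ψ.1 h) θ.1 ≠ 0 := by
          intro hh
          apply ha
          rw [Lead.frobenius_reciprocity N θ.1 ψ.1 (Lead.isClassFunction_of_irr ψ),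
            ← Lead.classInner_conj_symm, hh, map_zero]
        have hψθ' : Cfsg.classInner (fun h : N => ψ.1 h) θ'.1 ≠ 0 := by
          intro hh
          apply hb
          rw [Lead.frobenius_reciprocity N θ'.1 ψ.1 (Lead.isClassFunction_of_irr ψ),
            ← Lead.classInner_conj_symm, hh, map_zero]
        obtain ⟨x, hx⟩ := Helper7.Cliff.exists_conj_of_constituents N ψ θ θ' hψθ hψθ'
        apply hθ'
        rw [hx, Helper7.Cliff.inner_restrict_conjFun N χ.1 (Lead.isClassFunction_of_irr χ) θ.1 x]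
        exact h0
  rw [hL, hR, hzero, map_zero, zero_mul] at hinner
  rcases mul_eq_zero.mp hinner with h7 | h7
  · have h8 : Cfsg.classInner (Cfsg.indFun N θ.1) (Cfsg.indFun N θ.1) = 0 := by
      have := congrArg (starRingEnd ℂ) h7
      rwa [Complex.conj_conj, map_zero] at this
    have h9 := coh_norm_eq_zero _ h8
    have h10 := congrFun h9 1
    rw [Lead.indFun_one_eq] at h10
    have hG1 : (Fintype.card G : ℂ) ≠ 0 := by
      rw [← Nat.card_eq_fintype_card]; exact hG0
    exact (mul_ne_zero (inv_ne_zero hN0) (mul_ne_zero hG1 hθ1)) h10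
  · exact hθ'1 h7

end icc

end Cfsg.Agent.Lib.Helper6
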