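import Cfsg.Agent.Lib.Helper6.Sylow2

set_option autoImplicit false

namespace Cfsg.Agent.Lib.Helper6

variable {G : Type*} [Group G]

theorem eq_one_of_pow_of_mem_coprime {p : ℕ} [Finite G] {N : Subgroup G}
    (hN : (Nat.card N).Coprime p) {x : G} {k : ℕ} (h1 : x ^ (p ^ k) = 1) (hxN : x ∈ N) :
    x = 1 := by
  have h3 : orderOf x ∣ Nat.gcd (p ^ k) (Nat.card N) :=
    Nat.dvd_gcd (orderOf_dvd_of_pow_eq_one h1) (Subgroup.orderOf_dvd_natCard N hxN)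
  have h4 : Nat.gcd (p ^ k) (Nat.card N) = 1 := (Nat.Coprime.pow_left k hN.symm)
  rw [h4] at h3
  exact orderOf_eq_one_iff.mp (Nat.dvd_one.mp h3)

theorem eq_one_of_mem_pgroup_of_mem_coprime {p : ℕ} [Finite G] {P N : Subgroup G}
    (hP : IsPGroup p P) (hN : (Nat.card N).Coprime p) {x : G} (hxP : x ∈ P) (hxN : x ∈ N) :
    x = 1 := by
  obtain ⟨k, hk⟩ := hP ⟨x, hxP⟩
  have h1 : x ^ (p ^ k) = 1 := by simpa using congrArg Subtype.val hk
  exact eq_one_of_pow_of_mem_coprime hN h1 hxN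

/-- If `N` is a normal `p'`-subgroup and `Q ≤ N P` for `p`-subgroups `P`, `Q`, then some
`N`-conjugate of `Q` lies in `P`. -/
theorem exists_conj_le_of_le_sup {p : ℕ} [Fact p.Prime] [Finite G] (N : Subgroup G) [N.Normal]
    (hN : (Nat.card N).Coprime p) {P Q : Subgroup G} (hP : IsPGroup p P) (hQ : IsPGroup p Q)
    (hQP : Q ≤ N ⊔ P) : ∃ m ∈ N, ∀ y ∈ Q, m⁻¹ * y * m ∈ P := by
  have hPH : P ≤ N ⊔ P := le_sup_right
  have hNH : N ≤ N ⊔ P := le_sup_left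
  have hP' : IsPGroup p (P.subgroupOf (N ⊔ P)) := hP.comap_subtype
  obtain ⟨S, hS⟩ := hP'.exists_le_sylow
  have hSP : ∀ s : ↥(N ⊔ P), s ∈ (S : Subgroup ↥(N ⊔ P)) → (s : G) ∈ P := by
    intro s hs
    have hsH : (s : G) ∈ ((N ⊔ P : Subgroup G) : Set G) := s.2
    rw [Subgroup.normal_mul] at hsH
    obtain ⟨n, hn, x, hx, hnx⟩ := hsH
    have hnx : n * x = (s : G) := hnx
    have hn : n ∈ N := hn
    have hx : x ∈ P := hx
    have hxS : (⟨x, hPH hx⟩ : ↥(N ⊔ P)) ∈ (S : Subgroup ↥(N ⊔ P)) :=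
      hS (Subgroup.mem_subgroupOf.mpr hx)
    have hnS : (⟨n, hNH hn⟩ : ↥(N ⊔ P)) ∈ (S : Subgroup ↥(N ⊔ P)) := by
      have e : (⟨n, hNH hn⟩ : ↥(N ⊔ P)) = s * (⟨x, hPH hx⟩ : ↥(N ⊔ P))⁻¹ := by
        apply Subtype.ext
        simp [← hnx]
      rw [e]
      exact Subgroup.mul_mem _ hs (Subgroup.inv_mem _ hxS)
    have hn1 : n = 1 := by
      obtain ⟨k, hk⟩ := S.isPGroup' ⟨⟨n, hNH hn⟩, hnS⟩
      have h1 : n ^ (p ^ k) = 1 := by
        have := congrArg (fun z : ↥(S : Subgroup ↥(N ⊔ P)) => ((z : ↥(N ⊔ P)) : G)) hk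
        simpa using this
      exact eq_one_of_pow_of_mem_coprime hN h1 hn
    rw [← hnx, hn1, one_mul]
    exact hx
  have hQ' : IsPGroup p (Q.subgroupOf (N ⊔ P)) := hQ.comap_subtype
  obtain ⟨S₂, hS₂⟩ := hQ'.exists_le_sylow
  obtain ⟨c, hc⟩ := MulAction.exists_smul_eq (↥(N ⊔ P)) S S₂
  have hcH : (c : G) ∈ ((N ⊔ P : Subgroup G) : Set G) := c.2
  rw [Subgroup.normal_mul] at hcH
  obtain ⟨m, hm, r, hr, hmr⟩ := hcH
  have hmr : m * r = (c : G) := hmr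
  have hm : m ∈ N := hm
  have hr : r ∈ P := hr
  refine ⟨m, hm, ?_⟩
  intro y hy
  have h1 : (⟨y, hQP hy⟩ : ↥(N ⊔ P)) ∈ (S₂ : Subgroup ↥(N ⊔ P)) :=
    hS₂ (Subgroup.mem_subgroupOf.mpr hy)
  rw [← hc, sylow_smul_mem_iff] at h1
  have h2 := hSP _ h1
  have e : m⁻¹ * y * m = r * ((c⁻¹ * ⟨y, hQP hy⟩ * c : ↥(N ⊔ P)) : G) * r⁻¹ := by
    simp only [Subgroup.coe_mul, Subgroup.coe_inv]
    rw [← hmr]
    group
  rw [e]
  exact Subgroup.mul_mem _ (Subgroup.mul_mem _ hr h2) (Subgroup.inv_mem _ hr)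

/-- If `N` is a normal `p'`-subgroup and `p`-subgroups `P`, `Q` have the same image mod `N`,
then they are conjugate by an element of `N`. -/
theorem exists_conj_eq_of_map_eq {p : ℕ} [Fact p.Prime] [Finite G] (N : Subgroup G) [N.Normal]
    (hN : (Nat.card N).Coprime p) {P Q : Subgroup G} (hP : IsPGroup p P) (hQ : IsPGroup p Q)
    (h : P.map (QuotientGroup.mk' N) = Q.map (QuotientGroup.mk' N)) :
    ∃ m ∈ N, ∀ x, x ∈ P ↔ m * x * m⁻¹ ∈ Q := by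
  have hQP : Q ≤ N ⊔ P := by
    intro y hy
    have h1 : (QuotientGroup.mk' N) y ∈ P.map (QuotientGroup.mk' N) := by
      rw [h]; exact Subgroup.mem_map_of_mem _ hy
    obtain ⟨x, hx, hxy⟩ := h1
    rw [QuotientGroup.mk'_eq_mk'] at hxy
    obtain ⟨z, hz, hzy⟩ := hxy
    rw [← hzy]
    exact Subgroup.mul_mem _ (Subgroup.mem_sup_right hx) (Subgroup.mem_sup_left hz)
  obtain ⟨m, hm, hmQ⟩ := exists_conj_le_of_le_sup N hN hP hQ hQP
  refine ⟨m, hm, ?_⟩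
  intro x
  constructor
  · intro hx
    have h1 : (QuotientGroup.mk' N) x ∈ Q.map (QuotientGroup.mk' N) := by
      rw [← h]; exact Subgroup.mem_map_of_mem _ hx
    obtain ⟨y, hy, hyx⟩ := h1
    rw [QuotientGroup.mk'_eq_mk'] at hyx
    obtain ⟨z, hz, hzx⟩ := hyx
    have h2 := hmQ y hy
    have h3 : x⁻¹ * (m⁻¹ * y * m) ∈ N := by
      have e : x⁻¹ * (m⁻¹ * y * m) = z⁻¹ * (y⁻¹ * (m⁻¹ * (y * m * y⁻¹)) * y) := by
        rw [← hzx]; group
      rw [e]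
      refine Subgroup.mul_mem _ (Subgroup.inv_mem _ hz) ?_
      have hNn : N.Normal := inferInstance
      have h4 : y * m * y⁻¹ ∈ N := hNn.conj_mem m hm y
      have h5 : m⁻¹ * (y * m * y⁻¹) ∈ N := Subgroup.mul_mem _ (Subgroup.inv_mem _ hm) h4
      have h6 := hNn.conj_mem _ h5 y⁻¹
      simpa using h6
    have h4 : x⁻¹ * (m⁻¹ * y * m) ∈ P := Subgroup.mul_mem _ (Subgroup.inv_mem _ hx) h2
    have h5 := eq_one_of_mem_pgroup_of_mem_coprime hP hN h4 h3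
    have h6 : m * x * m⁻¹ = y := by
      have : x = m⁻¹ * y * m := by
        have := congrArg (fun t => x * t) h5
        simpa using this.symm
      rw [this]; group
    rw [h6]; exact hy
  · intro hx
    have := hmQ _ hx
    have e : m⁻¹ * (m * x * m⁻¹) * m = x := by group
    rwa [e] at this

end Cfsg.Agent.Lib.Helper6
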