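import Cfsg.Agent.Lib.Helper6.Lift

set_option autoImplicit false

namespace Cfsg.Agent.Lib.Helper6

variable {G : Type*} [Group G]

/-- A `p`-element of `G ⧸ N` lifts to a `p`-element of `G`. -/
theorem exists_pelt_lift {p : ℕ} [Fact p.Prime] [Finite G] (N : Subgroup G) [N.Normal]
    (z : G ⧸ N) (b : ℕ) (hz : orderOf z = p ^ b) :
    ∃ x : G, ∃ a : ℕ, orderOf x = p ^ a ∧ (QuotientGroup.mk' N) x = z := by
  have hp := Fact.out (p := p.Prime)
  obtain ⟨g, rfl⟩ := QuotientGroup.mk'_surjective N z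
  by_cases hb : b = 0
  · subst hb
    rw [pow_zero, orderOf_eq_one_iff] at hz
    exact ⟨1, 0, by simp, by rw [map_one, hz]⟩
  have hn0 : orderOf g ≠ 0 := (orderOf_pos g).ne'
  have hab : p ^ (orderOf g).factorization p * (orderOf g / p ^ (orderOf g).factorization p)
      = orderOf g := Nat.ordProj_mul_ordCompl_eq_self (orderOf g) p
  have hcop : Nat.Coprime p (orderOf g / p ^ (orderOf g).factorization p) :=
    Nat.coprime_ordCompl hp hn0
  have hcop' : Nat.Coprime (orderOf g / p ^ (orderOf g).factorization p) (p ^ b) :=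
    (Nat.Coprime.pow_left b hcop).symm
  have h1 : 1 < p ^ b := Nat.one_lt_pow hb hp.one_lt
  obtain ⟨t, -, ht⟩ := Nat.exists_mul_mod_eq_one_of_coprime hcop' h1
  have hx : (g ^ ((orderOf g / p ^ (orderOf g).factorization p) * t))
      ^ (p ^ (orderOf g).factorization p) = 1 := by
    rw [← pow_mul, mul_comm, ← mul_assoc, hab, pow_mul, pow_orderOf_eq_one, one_pow]
  obtain ⟨a, ha, hax⟩ := (Nat.dvd_prime_pow hp).mp (orderOf_dvd_of_pow_eq_one hx)
  refine ⟨g ^ ((orderOf g / p ^ (orderOf g).factorization p) * t), a, hax, ?_⟩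
  rw [map_pow, ← pow_mod_orderOf, hz, ht, pow_one]

end Cfsg.Agent.Lib.Helper6
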