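import Mathlib
import Cfsg.Agent.Lib.Helper6.BlockKer
import Cfsg.Agent.Lib.Lead.Block9
import Cfsg.Agent.Lib.Lead.Char13
import Cfsg.Agent.Lib.Lead.PCore2
import Cfsg.Agent.Lib.Helper7.Codeg
import Cfsg.Agent.Lib.Helper7.PDeg
import Cfsg.Agent.Lib.Helper7.PPrime
import Cfsg.Agent.Lib.Helper3.PSolv

set_option autoImplicit false

/-! The principal block of a `p`-solvable group is `Irr(G / O_{p'}(G))`. -/

namespace Cfsg.Agent.Lib.Helper6

open Cfsg.Agent.Lib.Lead Cfsg.Agent.Lib.Helper8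

/-- inflation from a quotient preserves the block relation -/
theorem sameBlock_inflate {G : Type*} [Group G] [Finite G] (M : Ideal Cfsg.AlgInt)
    (hmax : M.IsMaximal) (N : Subgroup G) [N.Normal] (α β : G ⧸ N → ℂ)
    (h : Cfsg.SameBlock M α β) :
    Cfsg.SameBlock M (fun g : G => α (QuotientGroup.mk g)) (fun g : G => β (QuotientGroup.mk g)) := by
  intro g
  have hLidx : ((Subgroup.centralizer ({(QuotientGroup.mk g : G ⧸ N)} : Set (G ⧸ N))).comap
      (QuotientGroup.mk' N)).index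
      = (Subgroup.centralizer ({(QuotientGroup.mk g : G ⧸ N)} : Set (G ⧸ N))).index :=
    Subgroup.index_comap_of_surjective _ (QuotientGroup.mk'_surjective N)
  have hCL : Subgroup.centralizer ({g} : Set G) ≤
      (Subgroup.centralizer ({(QuotientGroup.mk g : G ⧸ N)} : Set (G ⧸ N))).comap
        (QuotientGroup.mk' N) := by
    intro c hc
    rw [Subgroup.mem_comap, Subgroup.mem_centralizer_iff]
    intro y hy
    rw [Set.mem_singleton_iff] at hy
    rw [Subgroup.mem_centralizer_iff] at hc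
    have h1 := hc g (Set.mem_singleton _)
    rw [hy]
    exact congrArg (QuotientGroup.mk : G → G ⧸ N) h1
  have hidx := (Subgroup.relIndex_mul_index hCL).symm
  have h1 := h (QuotientGroup.mk g)
  unfold Cfsg.centralChar at h1
  have e : Cfsg.centralChar (fun g : G => α (QuotientGroup.mk g)) g
      - Cfsg.centralChar (fun g : G => β (QuotientGroup.mk g)) g
      = (((Subgroup.centralizer ({g} : Set G)).relIndex
          ((Subgroup.centralizer ({(QuotientGroup.mk g : G ⧸ N)} : Set (G ⧸ N))).comap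
            (QuotientGroup.mk' N)) : ℕ) : ℂ) *
        (((Subgroup.centralizer ({(QuotientGroup.mk g : G ⧸ N)} : Set (G ⧸ N))).index : ℂ)
            * α (QuotientGroup.mk g) / α 1
          - ((Subgroup.centralizer ({(QuotientGroup.mk g : G ⧸ N)} : Set (G ⧸ N))).index : ℂ)
            * β (QuotientGroup.mk g) / β 1) := by
    unfold Cfsg.centralChar
    rw [hidx, hLidx]
    push_cast
    rw [QuotientGroup.mk_one]
    ring
  rw [e]
  exact mli_mul hmax (mlr_natCast hmax _) h1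

theorem mem_principal_iff_psolv {G : Type*} [Group G] [Finite G] (p : ℕ) [Fact p.Prime]
    (M : Ideal Cfsg.AlgInt) (hM : Cfsg.IsPModular p M) (hsolv : Cfsg.IsPSolvable p G)
    (χ : Cfsg.IrrCharacter G) :
    χ ∈ Cfsg.principalBlock M G ↔ ∀ g ∈ Cfsg.pPrimeCore p G, χ.1 g = χ.1 1 := by
  haveI hNn : (Cfsg.pPrimeCore p G).Normal := Cfsg.Agent.Lib.Helper7.pPrimeCore_normal' p G
  have hp : p.Prime := Fact.out
  have hmax := hM.2.1
  constructor
  · intro h
    have hNp : ¬ p ∣ Nat.card (Cfsg.pPrimeCore p G) := by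
      have h1 := Cfsg.Agent.Lib.Helper7.pPrimeCore_coprime (G := G) p
      exact (Nat.Prime.coprime_iff_not_dvd hp).mp h1.symm
    exact pprime_ker_block p M hM (irrOne G) χ h (Cfsg.pPrimeCore p G) hNp (fun g _ => rfl)
  · intro h
    obtain ⟨χ', hχ'⟩ := Cfsg.Agent.Lib.Helper7.Codeg.exists_irr_quot χ (Cfsg.pPrimeCore p G) h
    have hsolvQ := Cfsg.Agent.Lib.Helper3.isPSolvable_quotient p (Cfsg.pPrimeCore p G) hsolv
    have hcoreQ : Cfsg.pPrimeCore p (G ⧸ Cfsg.pPrimeCore p G) = ⊥ :=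
      Cfsg.Agent.Lib.Lead.pPrimeCore_quotient p
    have h1 := psolv_one_block p M hM hsolvQ hcoreQ (irrOne (G ⧸ Cfsg.pPrimeCore p G)) χ'
    have h2 := sameBlock_inflate M hmax (Cfsg.pPrimeCore p G) _ _ h1
    have e1 : (fun g : G => (irrOne (G ⧸ Cfsg.pPrimeCore p G)).1 (QuotientGroup.mk g))
        = fun _ => (1 : ℂ) := rfl
    have e2 : (fun g : G => χ'.1 (QuotientGroup.mk g)) = χ.1 := funext hχ'
    rw [e1, e2] at h2
    exact h2

theorem solv_principal_inter {G : Type*} [Group G] [Finite G] [Group.IsSolvable G] (π : Set ℕ)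
    (hπ : ∀ p ∈ π, p.Prime ∧ p ∣ Nat.card G) (M : ℕ → Ideal Cfsg.AlgInt)
    (hM : ∀ p ∈ π, Cfsg.IsPModular p (M p)) :
    (∀ χ : Cfsg.IrrCharacter G, (∀ p ∈ π, χ ∈ Cfsg.principalBlock (M p) G) →
      (χ : G → ℂ) = fun _ => 1) ↔ ⨆ p ∈ π, Cfsg.pPrimeCore p G = ⊤ := by
  classical
  haveI hnorm : ∀ p, (Cfsg.pPrimeCore p G).Normal :=
    fun p => Cfsg.Agent.Lib.Helper7.pPrimeCore_normal' p G
  have hps : ∀ p ∈ π, Cfsg.IsPSolvable p G := by
    intro p hp
    haveI : Fact p.Prime := ⟨(hπ p hp).1⟩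
    exact Cfsg.Agent.Lib.Helper7.PDeg.isPSolvable_of_isSolvable p _ G rfl inferInstance
  have hiff : ∀ p ∈ π, ∀ χ : Cfsg.IrrCharacter G, χ ∈ Cfsg.principalBlock (M p) G ↔
      ∀ g ∈ Cfsg.pPrimeCore p G, χ.1 g = χ.1 1 := by
    intro p hp χ
    haveI : Fact p.Prime := ⟨(hπ p hp).1⟩
    exact mem_principal_iff_psolv p (M p) (hM p hp) (hps p hp) χ
  constructor
  · intro H
    by_contra hW
    haveI hWn : (⨆ p ∈ π, Cfsg.pPrimeCore p G).Normal := inferInstance
    have hcard : Nat.card (G ⧸ (⨆ p ∈ π, Cfsg.pPrimeCore p G)) ≠ 1 := by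
      intro h1
      exact hW (Subgroup.index_eq_one.mp h1)
    obtain ⟨q, hq, hqd⟩ := Nat.exists_prime_and_dvd hcard
    obtain ⟨χ', hne, -⟩ := exists_nontrivial_pprime_deg q hq hqd
    have hχ := H ⟨fun x => χ'.1 (QuotientGroup.mk' (⨆ p ∈ π, Cfsg.pPrimeCore p G) x),
      isIrrCharacter_comp_surj (QuotientGroup.mk' (⨆ p ∈ π, Cfsg.pPrimeCore p G))
        (QuotientGroup.mk'_surjective _) χ'.2⟩ (by
      intro p hp
      rw [hiff p hp]
      intro g hg
      have hgW : g ∈ (⨆ p ∈ π, Cfsg.pPrimeCore p G) :=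
        (le_biSup (fun p => Cfsg.pPrimeCore p G) hp) hg
      show χ'.1 (QuotientGroup.mk' _ g) = χ'.1 (QuotientGroup.mk' _ 1)
      have e : QuotientGroup.mk' (⨆ p ∈ π, Cfsg.pPrimeCore p G) g = 1 :=
        (QuotientGroup.eq_one_iff g).mpr hgW
      rw [e, map_one])
    apply hne
    apply eq_irrOne_of_const
    intro y
    obtain ⟨g, rfl⟩ := QuotientGroup.mk'_surjective (⨆ p ∈ π, Cfsg.pPrimeCore p G) y
    have h3 : χ'.1 (QuotientGroup.mk' (⨆ p ∈ π, Cfsg.pPrimeCore p G) g) = 1 := congrFun hχ g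
    have h4 : χ'.1 (QuotientGroup.mk' (⨆ p ∈ π, Cfsg.pPrimeCore p G) 1) = 1 := congrFun hχ 1
    rw [map_one] at h4
    rw [h3, h4]
  · intro hW χ hχ
    obtain ⟨Kχ, hKn, hK⟩ := exists_ker_subgroup χ
    have hle : (⨆ p ∈ π, Cfsg.pPrimeCore p G) ≤ Kχ := by
      apply iSup₂_le
      intro p hp g hg
      rw [hK]
      exact (hiff p hp χ).mp (hχ p hp) g hg
    rw [hW] at hle
    have hall : ∀ g : G, χ.1 g = χ.1 1 := fun g => (hK g).mp (hle (Subgroup.mem_top g))
    have h1 := eq_irrOne_of_const χ hall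
    rw [h1]; rfl

end Cfsg.Agent.Lib.Helper6
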