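import Cfsg.Agent.Lib.Helper6.PSub

set_option autoImplicit false

namespace Cfsg.Agent.Lib.Helper6

variable {G : Type*} [Group G]

theorem exists_conj_mem_sylow_of_mem_sup {p : ℕ} [Fact p.Prime] [Finite G] (R : Sylow p G)
    (N : Subgroup G) [N.Normal] (v : G) (hv : v ∈ N ⊔ (R : Subgroup G)) (k : ℕ)
    (hvp : orderOf v = p ^ k) : ∃ m ∈ N, m⁻¹ * v * m ∈ (R : Subgroup G) := by
  have hRH : (R : Subgroup G) ≤ N ⊔ (R : Subgroup G) := le_sup_right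
  have hpg : IsPGroup p (Subgroup.zpowers (⟨v, hv⟩ : ↥(N ⊔ (R : Subgroup G)))) :=
    IsPGroup.of_card (n := k) (by rw [Nat.card_zpowers, Subgroup.orderOf_mk, hvp])
  obtain ⟨S, hS⟩ := hpg.exists_le_sylow
  obtain ⟨c, hc⟩ := MulAction.exists_smul_eq (↥(N ⊔ (R : Subgroup G))) (R.subtype hRH) S
  have h1 : (⟨v, hv⟩ : ↥(N ⊔ (R : Subgroup G))) ∈ (S : Subgroup ↥(N ⊔ (R : Subgroup G))) :=
    hS (Subgroup.mem_zpowers _)
  rw [← hc, sylow_smul_mem_iff] at h1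
  have h2 : ((c⁻¹ * ⟨v, hv⟩ * c : ↥(N ⊔ (R : Subgroup G))) : G) ∈ (R : Subgroup G) := by
    rw [Sylow.coe_subtype] at h1
    exact Subgroup.mem_subgroupOf.mp h1
  have hcH : (c : G) ∈ ((N ⊔ (R : Subgroup G) : Subgroup G) : Set G) := c.2
  rw [Subgroup.normal_mul] at hcH
  obtain ⟨m, hm, r, hr, hmr⟩ := hcH
  refine ⟨m, hm, ?_⟩
  have e : m⁻¹ * v * m = r * ((c⁻¹ * ⟨v, hv⟩ * c : ↥(N ⊔ (R : Subgroup G))) : G) * r⁻¹ := by
    simp only [Subgroup.coe_mul, Subgroup.coe_inv]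
    rw [← hmr]
    group
  rw [e]
  exact Subgroup.mul_mem _ (Subgroup.mul_mem _ hr h2) (Subgroup.inv_mem _ hr)

open scoped Pointwise in
theorem sylow_TI_elementwise {p : ℕ} [Fact p.Prime] [Finite G] (P : Sylow p G)
    (hTI : ∀ g : G, g ∉ Subgroup.normalizer ((P : Subgroup G) : Set G) →
      (P : Subgroup G) ⊓ (MulAut.conj g • (P : Subgroup G)) = ⊥) (P₁ : Sylow p G) :
    ∀ g x : G, x ∈ (P₁ : Subgroup G) → g⁻¹ * x * g ∈ (P₁ : Subgroup G) → x ≠ 1 →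
      g ∈ Subgroup.normalizer ((P₁ : Subgroup G) : Set G) := by
  have hTI' : ∀ g x : G, x ∈ (P : Subgroup G) → g⁻¹ * x * g ∈ (P : Subgroup G) → x ≠ 1 →
      g ∈ Subgroup.normalizer ((P : Subgroup G) : Set G) := by
    intro g x hx hgx hx1
    by_contra hg
    have h1 := hTI g hg
    have h2 : x ∈ (P : Subgroup G) ⊓ (MulAut.conj g • (P : Subgroup G)) :=
      ⟨hx, (mem_conj_smul_iff g x _).mpr hgx⟩
    rw [h1, Subgroup.mem_bot] at h2
    exact hx1 h2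
  obtain ⟨h, hh⟩ := MulAction.exists_smul_eq G P P₁
  have hmem : ∀ x : G, x ∈ (P₁ : Subgroup G) ↔ h⁻¹ * x * h ∈ (P : Subgroup G) := by
    intro x
    rw [← hh]
    exact sylow_smul_mem_iff h P x
  intro g x hx hgx hx1
  have hg : h⁻¹ * g * h ∈ Subgroup.normalizer ((P : Subgroup G) : Set G) := by
    apply hTI' (h⁻¹ * g * h) (h⁻¹ * x * h) ((hmem x).mp hx)
    · have e : (h⁻¹ * g * h)⁻¹ * (h⁻¹ * x * h) * (h⁻¹ * g * h) = h⁻¹ * (g⁻¹ * x * g) * h := by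
        group
      rw [e]
      exact (hmem _).mp hgx
    · intro h1
      apply hx1
      have e : x = h * (h⁻¹ * x * h) * h⁻¹ := by group
      rw [e, h1]
      group
  rw [Subgroup.mem_normalizer_iff] at hg ⊢
  intro w
  rw [hmem, hmem]
  have h2 := hg (h⁻¹ * w * h)
  have e : h⁻¹ * g * h * (h⁻¹ * w * h) * (h⁻¹ * g * h)⁻¹ = h⁻¹ * (g * w * g⁻¹) * h := by group
  rw [e] at h2
  exact h2

end Cfsg.Agent.Lib.Helper6
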