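import Mathlib
import Cfsg.Prelude.Def_SporadicCombinatorics

set_option autoImplicit false

namespace Cfsg.Agent.Lib.Helper6

theorem tg_sum3 (f : ZMod 3 → ZMod 3) : ∑ r : ZMod 3, f r = f 0 + f 1 + f 2 :=
  Fin.sum_univ_three f

theorem tg_val3 : ∀ a b c : ZMod 3, a ≠ 0 → b ≠ 0 → c ≠ 0 → a + b + c = 0 → a = b ∧ a = c := by
  decide

theorem tg_r3 : ∀ r : ZMod 3, r = 0 ∨ r = 1 ∨ r = 2 := by decide

theorem tg_pm : ∀ a : ZMod 3, a ≠ 0 → a = 1 ∨ a = -1 := by decide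

theorem tg_key (c : Cfsg.ArrayPt → (ZMod 3)ˣ)
    (h : ∀ x ∈ Cfsg.ternaryGolayCode, Cfsg.monomialMap 1 c x ∈ Cfsg.ternaryGolayCode)
    (j k : Fin 4) (hj : j ≠ 0) (hk : k ≠ 0) (hkj : k ≠ j) :
    (∀ r, c (0, r) = c (0, 0)) ∧ (∀ r, c (j, r) = c (0, 0)) := by
  obtain ⟨x, hxdef⟩ : ∃ x : Cfsg.ArrayPt → ZMod 3,
      x = fun p => if p.1 = 0 then 1 else if p.1 = j then -1 else 0 := ⟨_, rfl⟩
  have hx0 : ∀ r, x (0, r) = 1 := by intro r; rw [hxdef]; simp
  have hxj : ∀ r, x (j, r) = -1 := by intro r; rw [hxdef]; simp [hj]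
  have hxo : ∀ i r, i ≠ 0 → i ≠ j → x (i, r) = 0 := by
    intro i r h1 h2; rw [hxdef]; simp [h1, h2]
  have hx : x ∈ Cfsg.ternaryGolayCode := by
    refine ⟨0, fun i => ?_, fun t _ => ?_⟩
    · rw [tg_sum3]
      by_cases h1 : i = 0
      · subst h1; rw [hx0, hx0, hx0]; decide
      · by_cases h2 : i = j
        · subst h2; rw [hxj, hxj, hxj]; decide
        · rw [hxo i _ h1 h2, hxo i _ h1 h2, hxo i _ h1 h2]; decide
    · rw [Finset.sum_eq_add (0 : Fin 4) j hj.symm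
        (fun i _ hi => hxo i _ hi.1 hi.2) (fun h0 => absurd (Finset.mem_univ _) h0)
        (fun h0 => absurd (Finset.mem_univ _) h0), hx0, hxj]
      decide
  obtain ⟨s, hcol, htet⟩ := h x hx
  have hy : ∀ p, Cfsg.monomialMap 1 c x p = (c p : ZMod 3) * x p := fun p => rfl
  have hs : s = 0 := by
    have h1 := hcol k
    rw [tg_sum3, hy, hy, hy, hxo k _ hk hkj, hxo k _ hk hkj, hxo k _ hk hkj] at h1
    simp only [mul_zero, add_zero] at h1
    exact neg_eq_zero.mp h1.symm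
  have hc0 : (c (0, 0) : ZMod 3) + (c (0, 1) : ZMod 3) + (c (0, 2) : ZMod 3) = 0 := by
    have h1 := hcol 0
    rw [tg_sum3, hy, hy, hy, hx0, hx0, hx0, hs] at h1
    simpa using h1
  have hcj : (c (j, 0) : ZMod 3) + (c (j, 1) : ZMod 3) + (c (j, 2) : ZMod 3) = 0 := by
    have h1 := hcol j
    rw [tg_sum3, hy, hy, hy, hxj, hxj, hxj, hs] at h1
    have h2 : (c (j, 0) : ZMod 3) * -1 + (c (j, 1) : ZMod 3) * -1 + (c (j, 2) : ZMod 3) * -1
        = -((c (j, 0) : ZMod 3) + (c (j, 1) : ZMod 3) + (c (j, 2) : ZMod 3)) := by ring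
    rw [h2, neg_zero] at h1
    exact neg_eq_zero.mp h1
  have h0j : (c (0, 0) : ZMod 3) = (c (j, 0) : ZMod 3) := by
    have h1 := htet 0 (Submodule.zero_mem _)
    rw [Finset.sum_eq_add (0 : Fin 4) j hj.symm
        (fun i _ hi => by rw [hy]; show (c (i, 0) : ZMod 3) * x (i, 0) = 0; rw [hxo i _ hi.1 hi.2, mul_zero])
        (fun h0 => absurd (Finset.mem_univ _) h0)
        (fun h0 => absurd (Finset.mem_univ _) h0), hs] at h1
    have h2 : Cfsg.monomialMap 1 c x (0, (0 : Fin 4 → ZMod 3) 0) = (c (0, 0) : ZMod 3) * 1 := by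
      rw [hy]; show (c (0, 0) : ZMod 3) * x (0, 0) = _; rw [hx0]
    have h3 : Cfsg.monomialMap 1 c x (j, (0 : Fin 4 → ZMod 3) j) = (c (j, 0) : ZMod 3) * -1 := by
      rw [hy]; show (c (j, 0) : ZMod 3) * x (j, 0) = _; rw [hxj]
    rw [h2, h3] at h1
    have h4 : (c (0, 0) : ZMod 3) - (c (j, 0) : ZMod 3) = 0 := by
      have h5 : (c (0, 0) : ZMod 3) - (c (j, 0) : ZMod 3)
          = (c (0, 0) : ZMod 3) * 1 + (c (j, 0) : ZMod 3) * -1 := by ring
      rw [h5]; exact h1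
    exact sub_eq_zero.mp h4
  have e0 := tg_val3 _ _ _ (c (0, 0)).ne_zero (c (0, 1)).ne_zero (c (0, 2)).ne_zero hc0
  have ej := tg_val3 _ _ _ (c (j, 0)).ne_zero (c (j, 1)).ne_zero (c (j, 2)).ne_zero hcj
  constructor
  · intro r
    rcases tg_r3 r with rfl | rfl | rfl
    · rfl
    · exact (Units.ext e0.1).symm
    · exact (Units.ext e0.2).symm
  · intro r
    have hj0 : c (j, 0) = c (0, 0) := (Units.ext h0j).symm
    rcases tg_r3 r with rfl | rfl | rfl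
    · exact hj0
    · rw [← hj0]; exact (Units.ext ej.1).symm
    · rw [← hj0]; exact (Units.ext ej.2).symm

theorem tg_diag (c : Cfsg.ArrayPt → (ZMod 3)ˣ)
    (h : ∀ x ∈ Cfsg.ternaryGolayCode, Cfsg.monomialMap 1 c x ∈ Cfsg.ternaryGolayCode) :
    (∀ p, c p = 1) ∨ (∀ p, c p = -1) := by
  have k1 := tg_key c h 1 2 (by decide) (by decide) (by decide)
  have k2 := tg_key c h 2 1 (by decide) (by decide) (by decide)
  have k3 := tg_key c h 3 1 (by decide) (by decide) (by decide)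
  have hall : ∀ p, c p = c (0, 0) := by
    rintro ⟨i, r⟩
    fin_cases i
    · exact k1.1 r
    · exact k1.2 r
    · exact k2.2 r
    · exact k3.2 r
  rcases tg_pm _ (c (0, 0)).ne_zero with h1 | h1
  · left; intro p; rw [hall p]; exact Units.ext h1
  · right; intro p; rw [hall p]; exact Units.ext (by rw [h1]; simp)

end Cfsg.Agent.Lib.Helper6
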