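import Mathlib
import Cfsg.Prelude.Def_SporadicCombinatorics

set_option autoImplicit false

namespace Cfsg.Agent.Lib.Helper6

abbrev Z36 := ZMod 3 × ZMod 3 × ZMod 3 × ZMod 3 × ZMod 3 × ZMod 3

def tgParam (c : Z36) : Cfsg.ArrayPt → ZMod 3 := fun p =>
  c.1 * (1 + p.2 * p.2)
    + (![c.2.1, c.2.2.1, c.2.2.2.1, -c.2.1 - c.2.2.1 - c.2.2.2.1] : Fin 4 → ZMod 3) p.1
    + (![c.2.2.2.2.2, c.2.2.2.2.1, c.2.2.2.2.1 + c.2.2.2.2.2,
        c.2.2.2.2.1 + 2 * c.2.2.2.2.2] : Fin 4 → ZMod 3) p.1 * p.2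

def tgWt (c : Z36) : ℕ := (Cfsg.ternarySupport (tgParam c)).card

def tgInv (x : Cfsg.ArrayPt → ZMod 3) : Z36 :=
  (x (0, 0) + x (1, 0) + x (2, 0) + x (3, 0),
   x (0, 0) - (x (0, 0) + x (1, 0) + x (2, 0) + x (3, 0)),
   x (1, 0) - (x (0, 0) + x (1, 0) + x (2, 0) + x (3, 0)),
   x (2, 0) - (x (0, 0) + x (1, 0) + x (2, 0) + x (3, 0)),
   x (1, 1) - x (1, 0) - (x (0, 0) + x (1, 0) + x (2, 0) + x (3, 0)),
   x (0, 1) - x (0, 0) - (x (0, 0) + x (1, 0) + x (2, 0) + x (3, 0)))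

set_option maxRecDepth 1000000 in
theorem tg_wt_cases : ∀ c : Z36, c = 0 ∨ tgWt c = 6 ∨ tgWt c = 9 ∨ tgWt c = 12 := by
  decide +kernel

set_option maxRecDepth 1000000 in
theorem tg_wt6 : (Finset.univ.filter (fun c : Z36 => tgWt c = 6)).card = 264 := by
  decide +kernel

set_option maxRecDepth 1000000 in
theorem tg_wt9 : (Finset.univ.filter (fun c : Z36 => tgWt c = 9)).card = 440 := by
  decide +kernel

set_option maxRecDepth 1000000 in
theorem tg_wt12 : (Finset.univ.filter (fun c : Z36 => tgWt c = 12)).card = 24 := by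
  decide +kernel

set_option maxRecDepth 1000000 in
theorem tg_left : ∀ c : Z36, tgInv (tgParam c) = c := by
  decide +kernel

set_option maxRecDepth 1000000 in
theorem tg_col : ∀ c : Z36, ∀ i : Fin 4, ∑ r : ZMod 3, tgParam c (i, r) = -c.1 := by
  decide +kernel

set_option maxRecDepth 1000000 in
theorem tg_tet : ∀ c : Z36, ∀ x y : ZMod 3,
    ∑ i : Fin 4, tgParam c (i, (x • (![0, 1, 1, 1] : Fin 4 → ZMod 3)
      + y • (![1, 0, 1, 2] : Fin 4 → ZMod 3)) i) = c.1 := by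
  decide +kernel

set_option maxRecDepth 1000000 in
theorem tgParam_zero : tgParam 0 = 0 := by
  decide +kernel

set_option maxRecDepth 1000000 in
theorem tg_solve : ∀ s x00 x01 x10 x11 x20 x21 x30 x31 : ZMod 3,
    x00 + x10 + x20 + x30 = s → x00 + x11 + x21 + x31 = s →
    x01 + x10 + x21 + (-s - x30 - x31) = s →
    ∀ p : Cfsg.ArrayPt,
      tgParam (s, x00 - s, x10 - s, x20 - s, x11 - x10 - s, x01 - x00 - s) p =
        (![![x00, x01, -s - x00 - x01], ![x10, x11, -s - x10 - x11],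
          ![x20, x21, -s - x20 - x21], ![x30, x31, -s - x30 - x31]] :
            Fin 4 → Fin 3 → ZMod 3) p.1 p.2 := by
  decide +kernel

end Cfsg.Agent.Lib.Helper6
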