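import Mathlib
import Cfsg.Agent.Lib.Helper6.TGWt
import Cfsg.Agent.Lib.Helper6.TGDiag

set_option autoImplicit false

namespace Cfsg.Agent.Lib.Helper6

theorem tgParam_inj : Function.Injective tgParam :=
  Function.LeftInverse.injective tg_left

theorem tgParam_mem (c : Z36) : tgParam c ∈ Cfsg.ternaryGolayCode := by
  refine ⟨c.1, tg_col c, fun t ht => ?_⟩
  have ht' : t ∈ Submodule.span (ZMod 3)
      {(![0, 1, 1, 1] : Fin 4 → ZMod 3), ![1, 0, 1, 2]} := ht
  rw [Submodule.mem_span_pair] at ht'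
  obtain ⟨x, y, rfl⟩ := ht'
  exact tg_tet c x y

theorem fin4_cases : ∀ i : Fin 4, i = 0 ∨ i = 1 ∨ i = 2 ∨ i = 3 := by decide

theorem tg_exists (x : Cfsg.ArrayPt → ZMod 3) (hx : x ∈ Cfsg.ternaryGolayCode) :
    ∃ c : Z36, tgParam c = x := by
  obtain ⟨s, hcol, htet⟩ := hx
  have h2 : ∀ i : Fin 4, x (i, 2) = -s - x (i, 0) - x (i, 1) := by
    intro i
    have h1 := hcol i
    rw [tg_sum3 (fun r => x (i, r))] at h1
    linear_combination h1
  have T0 : x (0, 0) + x (1, 0) + x (2, 0) + x (3, 0) = s := by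
    have h1 := htet 0 (Submodule.zero_mem _)
    rw [Fin.sum_univ_four] at h1
    exact h1
  have T1 : x (0, 0) + x (1, 1) + x (2, 1) + x (3, 1) = s := by
    have h1 := htet ![0, 1, 1, 1] (Submodule.subset_span (by simp))
    rw [Fin.sum_univ_four] at h1
    exact h1
  have T2 : x (0, 1) + x (1, 0) + x (2, 1) + (-s - x (3, 0) - x (3, 1)) = s := by
    have h1 := htet ![1, 0, 1, 2] (Submodule.subset_span (by simp))
    rw [Fin.sum_univ_four] at h1
    rw [← h2 3]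
    exact h1
  have key := tg_solve s (x (0, 0)) (x (0, 1)) (x (1, 0)) (x (1, 1)) (x (2, 0)) (x (2, 1))
    (x (3, 0)) (x (3, 1)) T0 T1 T2
  refine ⟨(s, x (0, 0) - s, x (1, 0) - s, x (2, 0) - s, x (1, 1) - x (1, 0) - s,
    x (0, 1) - x (0, 0) - s), funext fun p => ?_⟩
  rw [key p]
  obtain ⟨i, r⟩ := p
  rcases fin4_cases i with rfl | rfl | rfl | rfl <;> rcases tg_r3 r with rfl | rfl | rfl
  · rfl
  · rfl
  · exact (h2 0).symm
  · rfl
  · rfl
  · exact (h2 1).symm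
  · rfl
  · rfl
  · exact (h2 2).symm
  · rfl
  · rfl
  · exact (h2 3).symm

theorem tg_mem_iff (x : Cfsg.ArrayPt → ZMod 3) :
    x ∈ Cfsg.ternaryGolayCode ↔ ∃ c : Z36, tgParam c = x :=
  ⟨tg_exists x, fun ⟨c, hc⟩ => hc ▸ tgParam_mem c⟩

theorem tg_card : Nat.card ↥Cfsg.ternaryGolayCode = 729 := by
  have e : ↥Cfsg.ternaryGolayCode ≃ ↥(Set.range tgParam) :=
    Equiv.subtypeEquivRight (fun x => tg_mem_iff x)
  rw [Nat.card_congr e, Nat.card_range_of_injective tgParam_inj, Nat.card_eq_fintype_card]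
  simp [Fintype.card_prod, ZMod.card]

theorem tg_count (w n : ℕ) (hn : (Finset.univ.filter (fun c : Z36 => tgWt c = w)).card = n) :
    {x : Cfsg.ArrayPt → ZMod 3 | x ∈ Cfsg.ternaryGolayCode ∧
      (Cfsg.ternarySupport x).card = w}.ncard = n := by
  have e : {x : Cfsg.ArrayPt → ZMod 3 | x ∈ Cfsg.ternaryGolayCode ∧
      (Cfsg.ternarySupport x).card = w}
      = tgParam '' (↑(Finset.univ.filter (fun c : Z36 => tgWt c = w)) : Set Z36) := by
    ext x
    simp only [Set.mem_ofPred_eq, Set.mem_image, Finset.coe_filter, Finset.mem_univ, true_and]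
    constructor
    · rintro ⟨hx, hw⟩
      obtain ⟨c, rfl⟩ := tg_exists x hx
      exact ⟨c, hw, rfl⟩
    · rintro ⟨c, hw, rfl⟩
      exact ⟨tgParam_mem c, hw⟩
  rw [e, Set.ncard_image_of_injective _ tgParam_inj, Set.ncard_coe_finset, hn]

theorem tg_main : Nat.card ↥Cfsg.ternaryGolayCode = 729 ∧
    (∀ x ∈ Cfsg.ternaryGolayCode, x ≠ 0 → (Cfsg.ternarySupport x).card = 6 ∨
      (Cfsg.ternarySupport x).card = 9 ∨ (Cfsg.ternarySupport x).card = 12) ∧
    {x : Cfsg.ArrayPt → ZMod 3 | x ∈ Cfsg.ternaryGolayCode ∧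
      (Cfsg.ternarySupport x).card = 6}.ncard = 264 ∧
    {x : Cfsg.ArrayPt → ZMod 3 | x ∈ Cfsg.ternaryGolayCode ∧
      (Cfsg.ternarySupport x).card = 9}.ncard = 440 ∧
    {x : Cfsg.ArrayPt → ZMod 3 | x ∈ Cfsg.ternaryGolayCode ∧
      (Cfsg.ternarySupport x).card = 12}.ncard = 24 := by
  refine ⟨tg_card, ?_, tg_count 6 264 tg_wt6, tg_count 9 440 tg_wt9, tg_count 12 24 tg_wt12⟩
  intro x hx hx0
  obtain ⟨c, rfl⟩ := tg_exists x hx
  rcases tg_wt_cases c with h0 | h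
  · exfalso
    apply hx0
    rw [h0]; exact tgParam_zero
  · exact h

end Cfsg.Agent.Lib.Helper6
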