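import Mathlib
import Cfsg.Agent.Lib.Helper6.TGWt2

set_option autoImplicit false

namespace Cfsg.Agent.Lib.Helper6

def tgL : List (Finset Cfsg.ArrayPt) := [
  ({(0, 0), (0, 1), (0, 2), (1, 0), (1, 1), (1, 2)} : Finset Cfsg.ArrayPt),
  ({(0, 0), (0, 1), (0, 2), (1, 0), (2, 0), (3, 0)} : Finset Cfsg.ArrayPt),
  ({(0, 0), (0, 1), (0, 2), (1, 0), (2, 1), (3, 2)} : Finset Cfsg.ArrayPt),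
  ({(0, 0), (0, 1), (0, 2), (1, 0), (2, 2), (3, 1)} : Finset Cfsg.ArrayPt),
  ({(0, 0), (0, 1), (0, 2), (1, 1), (2, 0), (3, 2)} : Finset Cfsg.ArrayPt),
  ({(0, 0), (0, 1), (0, 2), (1, 1), (2, 1), (3, 1)} : Finset Cfsg.ArrayPt),
  ({(0, 0), (0, 1), (0, 2), (1, 1), (2, 2), (3, 0)} : Finset Cfsg.ArrayPt),
  ({(0, 0), (0, 1), (0, 2), (1, 2), (2, 0), (3, 1)} : Finset Cfsg.ArrayPt),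
  ({(0, 0), (0, 1), (0, 2), (1, 2), (2, 1), (3, 0)} : Finset Cfsg.ArrayPt),
  ({(0, 0), (0, 1), (0, 2), (1, 2), (2, 2), (3, 2)} : Finset Cfsg.ArrayPt),
  ({(0, 0), (0, 1), (0, 2), (2, 0), (2, 1), (2, 2)} : Finset Cfsg.ArrayPt),
  ({(0, 0), (0, 1), (0, 2), (3, 0), (3, 1), (3, 2)} : Finset Cfsg.ArrayPt),
  ({(0, 0), (0, 1), (1, 0), (1, 1), (2, 0), (2, 2)} : Finset Cfsg.ArrayPt),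
  ({(0, 0), (0, 1), (1, 0), (1, 1), (2, 1), (3, 0)} : Finset Cfsg.ArrayPt),
  ({(0, 0), (0, 1), (1, 0), (1, 1), (3, 1), (3, 2)} : Finset Cfsg.ArrayPt),
  ({(0, 0), (0, 1), (1, 0), (1, 2), (2, 0), (3, 2)} : Finset Cfsg.ArrayPt),
  ({(0, 0), (0, 1), (1, 0), (1, 2), (2, 1), (2, 2)} : Finset Cfsg.ArrayPt),
  ({(0, 0), (0, 1), (1, 0), (1, 2), (3, 0), (3, 1)} : Finset Cfsg.ArrayPt),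
  ({(0, 0), (0, 1), (1, 0), (2, 0), (2, 1), (3, 1)} : Finset Cfsg.ArrayPt),
  ({(0, 0), (0, 1), (1, 0), (2, 2), (3, 0), (3, 2)} : Finset Cfsg.ArrayPt),
  ({(0, 0), (0, 1), (1, 1), (1, 2), (2, 0), (2, 1)} : Finset Cfsg.ArrayPt),
  ({(0, 0), (0, 1), (1, 1), (1, 2), (2, 2), (3, 1)} : Finset Cfsg.ArrayPt),
  ({(0, 0), (0, 1), (1, 1), (1, 2), (3, 0), (3, 2)} : Finset Cfsg.ArrayPt),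
  ({(0, 0), (0, 1), (1, 1), (2, 0), (3, 0), (3, 1)} : Finset Cfsg.ArrayPt),
  ({(0, 0), (0, 1), (1, 1), (2, 1), (2, 2), (3, 2)} : Finset Cfsg.ArrayPt),
  ({(0, 0), (0, 1), (1, 2), (2, 0), (2, 2), (3, 0)} : Finset Cfsg.ArrayPt),
  ({(0, 0), (0, 1), (1, 2), (2, 1), (3, 1), (3, 2)} : Finset Cfsg.ArrayPt),
  ({(0, 0), (0, 1), (2, 0), (2, 1), (3, 0), (3, 2)} : Finset Cfsg.ArrayPt),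
  ({(0, 0), (0, 1), (2, 0), (2, 2), (3, 1), (3, 2)} : Finset Cfsg.ArrayPt),
  ({(0, 0), (0, 1), (2, 1), (2, 2), (3, 0), (3, 1)} : Finset Cfsg.ArrayPt),
  ({(0, 0), (0, 2), (1, 0), (1, 1), (2, 0), (3, 1)} : Finset Cfsg.ArrayPt),
  ({(0, 0), (0, 2), (1, 0), (1, 1), (2, 1), (2, 2)} : Finset Cfsg.ArrayPt),
  ({(0, 0), (0, 2), (1, 0), (1, 1), (3, 0), (3, 2)} : Finset Cfsg.ArrayPt),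
  ({(0, 0), (0, 2), (1, 0), (1, 2), (2, 0), (2, 1)} : Finset Cfsg.ArrayPt),
  ({(0, 0), (0, 2), (1, 0), (1, 2), (2, 2), (3, 0)} : Finset Cfsg.ArrayPt),
  ({(0, 0), (0, 2), (1, 0), (1, 2), (3, 1), (3, 2)} : Finset Cfsg.ArrayPt),
  ({(0, 0), (0, 2), (1, 0), (2, 0), (2, 2), (3, 2)} : Finset Cfsg.ArrayPt),
  ({(0, 0), (0, 2), (1, 0), (2, 1), (3, 0), (3, 1)} : Finset Cfsg.ArrayPt),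
  ({(0, 0), (0, 2), (1, 1), (1, 2), (2, 0), (2, 2)} : Finset Cfsg.ArrayPt),
  ({(0, 0), (0, 2), (1, 1), (1, 2), (2, 1), (3, 2)} : Finset Cfsg.ArrayPt),
  ({(0, 0), (0, 2), (1, 1), (1, 2), (3, 0), (3, 1)} : Finset Cfsg.ArrayPt),
  ({(0, 0), (0, 2), (1, 1), (2, 0), (2, 1), (3, 0)} : Finset Cfsg.ArrayPt),
  ({(0, 0), (0, 2), (1, 1), (2, 2), (3, 1), (3, 2)} : Finset Cfsg.ArrayPt),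
  ({(0, 0), (0, 2), (1, 2), (2, 0), (3, 0), (3, 2)} : Finset Cfsg.ArrayPt),
  ({(0, 0), (0, 2), (1, 2), (2, 1), (2, 2), (3, 1)} : Finset Cfsg.ArrayPt),
  ({(0, 0), (0, 2), (2, 0), (2, 1), (3, 1), (3, 2)} : Finset Cfsg.ArrayPt),
  ({(0, 0), (0, 2), (2, 0), (2, 2), (3, 0), (3, 1)} : Finset Cfsg.ArrayPt),
  ({(0, 0), (0, 2), (2, 1), (2, 2), (3, 0), (3, 2)} : Finset Cfsg.ArrayPt),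
  ({(0, 0), (1, 0), (1, 1), (1, 2), (2, 0), (3, 0)} : Finset Cfsg.ArrayPt),
  ({(0, 0), (1, 0), (1, 1), (1, 2), (2, 1), (3, 1)} : Finset Cfsg.ArrayPt),
  ({(0, 0), (1, 0), (1, 1), (1, 2), (2, 2), (3, 2)} : Finset Cfsg.ArrayPt),
  ({(0, 0), (1, 0), (1, 1), (2, 0), (2, 1), (3, 2)} : Finset Cfsg.ArrayPt),
  ({(0, 0), (1, 0), (1, 1), (2, 2), (3, 0), (3, 1)} : Finset Cfsg.ArrayPt),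
  ({(0, 0), (1, 0), (1, 2), (2, 0), (2, 2), (3, 1)} : Finset Cfsg.ArrayPt),
  ({(0, 0), (1, 0), (1, 2), (2, 1), (3, 0), (3, 2)} : Finset Cfsg.ArrayPt),
  ({(0, 0), (1, 0), (2, 0), (2, 1), (2, 2), (3, 0)} : Finset Cfsg.ArrayPt),
  ({(0, 0), (1, 0), (2, 0), (3, 0), (3, 1), (3, 2)} : Finset Cfsg.ArrayPt),
  ({(0, 0), (1, 0), (2, 1), (2, 2), (3, 1), (3, 2)} : Finset Cfsg.ArrayPt),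
  ({(0, 0), (1, 1), (1, 2), (2, 0), (3, 1), (3, 2)} : Finset Cfsg.ArrayPt),
  ({(0, 0), (1, 1), (1, 2), (2, 1), (2, 2), (3, 0)} : Finset Cfsg.ArrayPt),
  ({(0, 0), (1, 1), (2, 0), (2, 1), (2, 2), (3, 1)} : Finset Cfsg.ArrayPt),
  ({(0, 0), (1, 1), (2, 0), (2, 2), (3, 0), (3, 2)} : Finset Cfsg.ArrayPt),
  ({(0, 0), (1, 1), (2, 1), (3, 0), (3, 1), (3, 2)} : Finset Cfsg.ArrayPt),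
  ({(0, 0), (1, 2), (2, 0), (2, 1), (2, 2), (3, 2)} : Finset Cfsg.ArrayPt),
  ({(0, 0), (1, 2), (2, 0), (2, 1), (3, 0), (3, 1)} : Finset Cfsg.ArrayPt),
  ({(0, 0), (1, 2), (2, 2), (3, 0), (3, 1), (3, 2)} : Finset Cfsg.ArrayPt),
  ({(0, 1), (0, 2), (1, 0), (1, 1), (2, 0), (2, 1)} : Finset Cfsg.ArrayPt),
  ({(0, 1), (0, 2), (1, 0), (1, 1), (2, 2), (3, 2)} : Finset Cfsg.ArrayPt),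
  ({(0, 1), (0, 2), (1, 0), (1, 1), (3, 0), (3, 1)} : Finset Cfsg.ArrayPt),
  ({(0, 1), (0, 2), (1, 0), (1, 2), (2, 0), (2, 2)} : Finset Cfsg.ArrayPt),
  ({(0, 1), (0, 2), (1, 0), (1, 2), (2, 1), (3, 1)} : Finset Cfsg.ArrayPt),
  ({(0, 1), (0, 2), (1, 0), (1, 2), (3, 0), (3, 2)} : Finset Cfsg.ArrayPt),
  ({(0, 1), (0, 2), (1, 0), (2, 0), (3, 1), (3, 2)} : Finset Cfsg.ArrayPt),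
  ({(0, 1), (0, 2), (1, 0), (2, 1), (2, 2), (3, 0)} : Finset Cfsg.ArrayPt),
  ({(0, 1), (0, 2), (1, 1), (1, 2), (2, 0), (3, 0)} : Finset Cfsg.ArrayPt),
  ({(0, 1), (0, 2), (1, 1), (1, 2), (2, 1), (2, 2)} : Finset Cfsg.ArrayPt),
  ({(0, 1), (0, 2), (1, 1), (1, 2), (3, 1), (3, 2)} : Finset Cfsg.ArrayPt),
  ({(0, 1), (0, 2), (1, 1), (2, 0), (2, 2), (3, 1)} : Finset Cfsg.ArrayPt),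
  ({(0, 1), (0, 2), (1, 1), (2, 1), (3, 0), (3, 2)} : Finset Cfsg.ArrayPt),
  ({(0, 1), (0, 2), (1, 2), (2, 0), (2, 1), (3, 2)} : Finset Cfsg.ArrayPt),
  ({(0, 1), (0, 2), (1, 2), (2, 2), (3, 0), (3, 1)} : Finset Cfsg.ArrayPt),
  ({(0, 1), (0, 2), (2, 0), (2, 1), (3, 0), (3, 1)} : Finset Cfsg.ArrayPt),
  ({(0, 1), (0, 2), (2, 0), (2, 2), (3, 0), (3, 2)} : Finset Cfsg.ArrayPt),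
  ({(0, 1), (0, 2), (2, 1), (2, 2), (3, 1), (3, 2)} : Finset Cfsg.ArrayPt),
  ({(0, 1), (1, 0), (1, 1), (1, 2), (2, 0), (3, 1)} : Finset Cfsg.ArrayPt),
  ({(0, 1), (1, 0), (1, 1), (1, 2), (2, 1), (3, 2)} : Finset Cfsg.ArrayPt),
  ({(0, 1), (1, 0), (1, 1), (1, 2), (2, 2), (3, 0)} : Finset Cfsg.ArrayPt),
  ({(0, 1), (1, 0), (1, 1), (2, 0), (3, 0), (3, 2)} : Finset Cfsg.ArrayPt),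
  ({(0, 1), (1, 0), (1, 1), (2, 1), (2, 2), (3, 1)} : Finset Cfsg.ArrayPt),
  ({(0, 1), (1, 0), (1, 2), (2, 0), (2, 1), (3, 0)} : Finset Cfsg.ArrayPt),
  ({(0, 1), (1, 0), (1, 2), (2, 2), (3, 1), (3, 2)} : Finset Cfsg.ArrayPt),
  ({(0, 1), (1, 0), (2, 0), (2, 1), (2, 2), (3, 2)} : Finset Cfsg.ArrayPt),
  ({(0, 1), (1, 0), (2, 0), (2, 2), (3, 0), (3, 1)} : Finset Cfsg.ArrayPt),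
  ({(0, 1), (1, 0), (2, 1), (3, 0), (3, 1), (3, 2)} : Finset Cfsg.ArrayPt),
  ({(0, 1), (1, 1), (1, 2), (2, 0), (2, 2), (3, 2)} : Finset Cfsg.ArrayPt),
  ({(0, 1), (1, 1), (1, 2), (2, 1), (3, 0), (3, 1)} : Finset Cfsg.ArrayPt),
  ({(0, 1), (1, 1), (2, 0), (2, 1), (2, 2), (3, 0)} : Finset Cfsg.ArrayPt),
  ({(0, 1), (1, 1), (2, 0), (2, 1), (3, 1), (3, 2)} : Finset Cfsg.ArrayPt),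
  ({(0, 1), (1, 1), (2, 2), (3, 0), (3, 1), (3, 2)} : Finset Cfsg.ArrayPt),
  ({(0, 1), (1, 2), (2, 0), (2, 1), (2, 2), (3, 1)} : Finset Cfsg.ArrayPt),
  ({(0, 1), (1, 2), (2, 0), (3, 0), (3, 1), (3, 2)} : Finset Cfsg.ArrayPt),
  ({(0, 1), (1, 2), (2, 1), (2, 2), (3, 0), (3, 2)} : Finset Cfsg.ArrayPt),
  ({(0, 2), (1, 0), (1, 1), (1, 2), (2, 0), (3, 2)} : Finset Cfsg.ArrayPt),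
  ({(0, 2), (1, 0), (1, 1), (1, 2), (2, 1), (3, 0)} : Finset Cfsg.ArrayPt),
  ({(0, 2), (1, 0), (1, 1), (1, 2), (2, 2), (3, 1)} : Finset Cfsg.ArrayPt),
  ({(0, 2), (1, 0), (1, 1), (2, 0), (2, 2), (3, 0)} : Finset Cfsg.ArrayPt),
  ({(0, 2), (1, 0), (1, 1), (2, 1), (3, 1), (3, 2)} : Finset Cfsg.ArrayPt),
  ({(0, 2), (1, 0), (1, 2), (2, 0), (3, 0), (3, 1)} : Finset Cfsg.ArrayPt),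
  ({(0, 2), (1, 0), (1, 2), (2, 1), (2, 2), (3, 2)} : Finset Cfsg.ArrayPt),
  ({(0, 2), (1, 0), (2, 0), (2, 1), (2, 2), (3, 1)} : Finset Cfsg.ArrayPt),
  ({(0, 2), (1, 0), (2, 0), (2, 1), (3, 0), (3, 2)} : Finset Cfsg.ArrayPt),
  ({(0, 2), (1, 0), (2, 2), (3, 0), (3, 1), (3, 2)} : Finset Cfsg.ArrayPt),
  ({(0, 2), (1, 1), (1, 2), (2, 0), (2, 1), (3, 1)} : Finset Cfsg.ArrayPt),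
  ({(0, 2), (1, 1), (1, 2), (2, 2), (3, 0), (3, 2)} : Finset Cfsg.ArrayPt),
  ({(0, 2), (1, 1), (2, 0), (2, 1), (2, 2), (3, 2)} : Finset Cfsg.ArrayPt),
  ({(0, 2), (1, 1), (2, 0), (3, 0), (3, 1), (3, 2)} : Finset Cfsg.ArrayPt),
  ({(0, 2), (1, 1), (2, 1), (2, 2), (3, 0), (3, 1)} : Finset Cfsg.ArrayPt),
  ({(0, 2), (1, 2), (2, 0), (2, 1), (2, 2), (3, 0)} : Finset Cfsg.ArrayPt),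
  ({(0, 2), (1, 2), (2, 0), (2, 2), (3, 1), (3, 2)} : Finset Cfsg.ArrayPt),
  ({(0, 2), (1, 2), (2, 1), (3, 0), (3, 1), (3, 2)} : Finset Cfsg.ArrayPt),
  ({(1, 0), (1, 1), (1, 2), (2, 0), (2, 1), (2, 2)} : Finset Cfsg.ArrayPt),
  ({(1, 0), (1, 1), (1, 2), (3, 0), (3, 1), (3, 2)} : Finset Cfsg.ArrayPt),
  ({(1, 0), (1, 1), (2, 0), (2, 1), (3, 0), (3, 1)} : Finset Cfsg.ArrayPt),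
  ({(1, 0), (1, 1), (2, 0), (2, 2), (3, 1), (3, 2)} : Finset Cfsg.ArrayPt),
  ({(1, 0), (1, 1), (2, 1), (2, 2), (3, 0), (3, 2)} : Finset Cfsg.ArrayPt),
  ({(1, 0), (1, 2), (2, 0), (2, 1), (3, 1), (3, 2)} : Finset Cfsg.ArrayPt),
  ({(1, 0), (1, 2), (2, 0), (2, 2), (3, 0), (3, 2)} : Finset Cfsg.ArrayPt),
  ({(1, 0), (1, 2), (2, 1), (2, 2), (3, 0), (3, 1)} : Finset Cfsg.ArrayPt),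
  ({(1, 1), (1, 2), (2, 0), (2, 1), (3, 0), (3, 2)} : Finset Cfsg.ArrayPt),
  ({(1, 1), (1, 2), (2, 0), (2, 2), (3, 0), (3, 1)} : Finset Cfsg.ArrayPt),
  ({(1, 1), (1, 2), (2, 1), (2, 2), (3, 1), (3, 2)} : Finset Cfsg.ArrayPt),
  ({(2, 0), (2, 1), (2, 2), (3, 0), (3, 1), (3, 2)} : Finset Cfsg.ArrayPt)]

def tgLc : List Z36 := [
  (0, 1, 2, 0, 0, 0),
  (1, 0, 1, 1, 0, 0),
  (1, 1, 1, 2, 0, 1),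
  (1, 1, 1, 2, 0, 2),
  (1, 1, 2, 1, 1, 2),
  (1, 0, 2, 2, 1, 0),
  (1, 1, 2, 2, 1, 1),
  (1, 1, 2, 1, 2, 1),
  (1, 1, 2, 2, 2, 2),
  (1, 0, 2, 2, 2, 0),
  (0, 1, 0, 2, 0, 0),
  (0, 1, 0, 0, 0, 0),
  (0, 1, 1, 1, 1, 1),
  (1, 0, 0, 2, 2, 2),
  (0, 1, 2, 0, 2, 1),
  (1, 0, 0, 1, 1, 2),
  (0, 1, 2, 0, 1, 1),
  (0, 1, 1, 0, 2, 1),
  (1, 0, 1, 0, 0, 2),
  (1, 0, 1, 2, 0, 2),
  (0, 1, 0, 2, 1, 1),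
  (1, 0, 2, 2, 0, 2),
  (0, 1, 0, 0, 2, 1),
  (1, 0, 2, 1, 1, 2),
  (1, 0, 2, 2, 1, 2),
  (1, 0, 2, 0, 2, 2),
  (1, 0, 2, 2, 2, 2),
  (0, 1, 0, 1, 0, 1),
  (0, 1, 0, 2, 0, 1),
  (0, 1, 0, 0, 0, 1),
  (1, 0, 0, 1, 2, 1),
  (0, 1, 2, 0, 2, 2),
  (0, 1, 1, 0, 1, 2),
  (0, 1, 1, 1, 2, 2),
  (1, 0, 0, 2, 1, 1),
  (0, 1, 2, 0, 1, 2),
  (1, 0, 1, 0, 0, 1),
  (1, 0, 1, 2, 0, 1),
  (0, 1, 0, 2, 2, 2),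
  (1, 0, 2, 2, 0, 1),
  (0, 1, 0, 0, 1, 2),
  (1, 0, 2, 0, 1, 1),
  (1, 0, 2, 2, 1, 1),
  (1, 0, 2, 1, 2, 1),
  (1, 0, 2, 2, 2, 1),
  (0, 1, 0, 2, 0, 2),
  (0, 1, 0, 1, 0, 2),
  (0, 1, 0, 0, 0, 2),
  (1, 1, 0, 1, 0, 0),
  (1, 1, 1, 2, 1, 0),
  (1, 1, 1, 2, 2, 0),
  (1, 1, 0, 0, 2, 0),
  (1, 1, 0, 2, 2, 0),
  (1, 1, 0, 0, 1, 0),
  (1, 1, 0, 2, 1, 0),
  (1, 1, 1, 0, 0, 0),
  (1, 1, 1, 1, 0, 0),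
  (1, 1, 1, 2, 0, 0),
  (1, 1, 2, 1, 0, 0),
  (1, 1, 2, 2, 0, 0),
  (1, 1, 2, 1, 1, 0),
  (1, 1, 2, 0, 1, 0),
  (1, 1, 2, 2, 1, 0),
  (1, 1, 2, 1, 2, 0),
  (1, 1, 2, 0, 2, 0),
  (1, 1, 2, 2, 2, 0),
  (0, 0, 1, 2, 1, 1),
  (1, 2, 0, 2, 2, 0),
  (0, 0, 1, 0, 1, 2),
  (0, 0, 1, 2, 2, 2),
  (1, 2, 0, 2, 1, 0),
  (0, 0, 1, 0, 2, 1),
  (1, 2, 1, 1, 0, 0),
  (1, 2, 1, 2, 0, 0),
  (1, 2, 2, 1, 0, 0),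
  (0, 0, 0, 0, 1, 1),
  (0, 0, 0, 0, 1, 2),
  (1, 2, 2, 0, 1, 0),
  (1, 2, 2, 2, 1, 0),
  (1, 2, 2, 0, 2, 0),
  (1, 2, 2, 2, 2, 0),
  (0, 0, 0, 1, 0, 1),
  (0, 0, 0, 1, 0, 2),
  (0, 0, 0, 0, 0, 1),
  (1, 2, 1, 1, 2, 1),
  (1, 2, 0, 2, 0, 1),
  (1, 2, 1, 2, 1, 1),
  (1, 2, 0, 1, 2, 1),
  (1, 2, 0, 2, 2, 1),
  (1, 2, 0, 0, 1, 1),
  (1, 2, 0, 2, 1, 1),
  (1, 2, 1, 1, 0, 1),
  (1, 2, 1, 0, 0, 1),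
  (1, 2, 1, 2, 0, 1),
  (1, 2, 2, 0, 0, 1),
  (1, 2, 2, 2, 0, 1),
  (1, 2, 2, 1, 1, 1),
  (1, 2, 2, 0, 1, 1),
  (1, 2, 2, 2, 1, 1),
  (1, 2, 2, 0, 2, 1),
  (1, 2, 2, 1, 2, 1),
  (1, 2, 2, 2, 2, 1),
  (1, 2, 1, 1, 1, 2),
  (1, 2, 1, 2, 2, 2),
  (1, 2, 0, 2, 0, 2),
  (1, 2, 0, 0, 2, 2),
  (1, 2, 0, 2, 2, 2),
  (1, 2, 0, 1, 1, 2),
  (1, 2, 0, 2, 1, 2),
  (1, 2, 1, 1, 0, 2),
  (1, 2, 1, 0, 0, 2),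
  (1, 2, 1, 2, 0, 2),
  (1, 2, 2, 0, 0, 2),
  (1, 2, 2, 2, 0, 2),
  (1, 2, 2, 0, 1, 2),
  (1, 2, 2, 1, 1, 2),
  (1, 2, 2, 2, 1, 2),
  (1, 2, 2, 1, 2, 2),
  (1, 2, 2, 0, 2, 2),
  (1, 2, 2, 2, 2, 2),
  (0, 0, 1, 2, 0, 0),
  (0, 0, 1, 0, 0, 0),
  (0, 0, 1, 1, 1, 0),
  (0, 0, 1, 2, 1, 0),
  (0, 0, 1, 0, 1, 0),
  (0, 0, 1, 2, 2, 0),
  (0, 0, 1, 1, 2, 0),
  (0, 0, 1, 0, 2, 0),
  (0, 0, 0, 1, 1, 0),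
  (0, 0, 0, 1, 2, 0),
  (0, 0, 0, 0, 1, 0),
  (0, 0, 0, 1, 0, 0)]

end Cfsg.Agent.Lib.Helper6
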