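import Mathlib
import Cfsg.Agent.Lib.Helper6.TGHexDef

set_option autoImplicit false

namespace Cfsg.Agent.Lib.Helper6

set_option maxRecDepth 1000000 in
theorem tgL_complete : ∀ c : Z36, tgWt c = 6 → Cfsg.ternarySupport (tgParam c) ∈ tgL := by
  decide +kernel

set_option maxRecDepth 1000000 in
theorem tgL_sound : tgLc.map (fun c => Cfsg.ternarySupport (tgParam c)) = tgL := by
  decide +kernel

set_option maxRecDepth 1000000 in
theorem tgL_card6 : tgL.map Finset.card = List.replicate 132 6 := by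
  decide +kernel

set_option maxRecDepth 1000000 in
theorem tgL_nodup : tgL.Nodup := by
  decide +kernel

set_option maxRecDepth 1000000 in
theorem tgL_length : tgL.length = 132 := by
  decide +kernel

set_option maxRecDepth 1000000 in
theorem tgL_pairwise : tgL.Pairwise (fun a b => (a ∩ b).card ≤ 4) := by
  decide +kernel

theorem tgL_card6' : ∀ b ∈ tgL, b.card = 6 := by
  intro b hb
  have h1 : b.card ∈ tgL.map Finset.card := List.mem_map.2 ⟨b, hb, rfl⟩
  rw [tgL_card6] at h1
  exact List.eq_of_mem_replicate h1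

theorem tgL_inter : ∀ a ∈ tgL, ∀ b ∈ tgL, a ≠ b → (a ∩ b).card ≤ 4 := by
  intro a ha b hb hab
  haveI hsym : Std.Symm (fun a b : Finset Cfsg.ArrayPt => (a ∩ b).card ≤ 4) :=
    ⟨fun x y hxy => by
      show (y ∩ x).card ≤ 4
      rw [Finset.inter_comm]
      exact hxy⟩
  exact tgL_pairwise.forall ha hb hab

set_option maxRecDepth 1000000 in
theorem tgL_cover (s : Finset Cfsg.ArrayPt) (hs : s.card = 5) : ∃ b ∈ tgL, s ⊆ b := by
  classical
  have hdisj : ∀ a ∈ tgL.toFinset, ∀ b ∈ tgL.toFinset, a ≠ b →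
      Disjoint (a.powersetCard 5) (b.powersetCard 5) := by
    intro a ha b hb hab
    rw [Finset.disjoint_left]
    intro t hta htb
    rw [Finset.mem_powersetCard] at hta htb
    have h1 := tgL_inter a (List.mem_toFinset.1 ha) b (List.mem_toFinset.1 hb) hab
    have h2 : t.card ≤ (a ∩ b).card := Finset.card_le_card (Finset.subset_inter hta.1 htb.1)
    omega
  have hcard : (tgL.toFinset.biUnion (fun b => b.powersetCard 5)).card = 792 := by
    rw [Finset.card_biUnion hdisj]
    have h6 : ∀ b ∈ tgL.toFinset, (b.powersetCard 5).card = 6 := by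
      intro b hb
      rw [Finset.card_powersetCard, tgL_card6' b (List.mem_toFinset.1 hb)]
      rfl
    rw [Finset.sum_congr rfl h6, Finset.sum_const, List.toFinset_card_of_nodup tgL_nodup,
      tgL_length]
    rfl
  have hsub : tgL.toFinset.biUnion (fun b => b.powersetCard 5)
      ⊆ (Finset.univ : Finset Cfsg.ArrayPt).powersetCard 5 := by
    intro t ht
    rw [Finset.mem_biUnion] at ht
    obtain ⟨b, -, hb⟩ := ht
    rw [Finset.mem_powersetCard] at hb ⊢
    exact ⟨Finset.subset_univ _, hb.2⟩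
  have huniv : ((Finset.univ : Finset Cfsg.ArrayPt).powersetCard 5).card = 792 := by
    rw [Finset.card_powersetCard, Finset.card_univ]
    have : Fintype.card Cfsg.ArrayPt = 12 := by
      simp [Cfsg.ArrayPt, Fintype.card_prod, ZMod.card]
    rw [this]
    rfl
  have heq := Finset.eq_of_subset_of_card_le hsub (by rw [huniv, hcard])
  have hsm : s ∈ (Finset.univ : Finset Cfsg.ArrayPt).powersetCard 5 :=
    Finset.mem_powersetCard.2 ⟨Finset.subset_univ _, hs⟩
  rw [← heq, Finset.mem_biUnion] at hsm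
  obtain ⟨b, hb, hsb⟩ := hsm
  exact ⟨b, List.mem_toFinset.1 hb, (Finset.mem_powersetCard.1 hsb).1⟩

theorem tgB_iff (h : Finset Cfsg.ArrayPt) :
    h ∈ {h : Finset Cfsg.ArrayPt | ∃ x ∈ Cfsg.ternaryGolayCode,
      Cfsg.ternarySupport x = h ∧ h.card = 6} ↔ h ∈ tgL := by
  constructor
  · rintro ⟨x, hx, rfl, h6⟩
    obtain ⟨c, rfl⟩ := tg_exists x hx
    exact tgL_complete c h6
  · intro hh
    have hh' := hh
    rw [← tgL_sound] at hh'
    obtain ⟨c, hc, rfl⟩ := List.mem_map.1 hh'
    exact ⟨tgParam c, tgParam_mem c, rfl, tgL_card6' _ hh⟩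

theorem tg_hexads :
    Cfsg.IsSteinerSystem 5 6 {h : Finset Cfsg.ArrayPt | ∃ x ∈ Cfsg.ternaryGolayCode,
      Cfsg.ternarySupport x = h ∧ h.card = 6} ∧
    {h : Finset Cfsg.ArrayPt | ∃ x ∈ Cfsg.ternaryGolayCode,
      Cfsg.ternarySupport x = h ∧ h.card = 6}.ncard = 132 := by
  refine ⟨⟨?_, ?_⟩, ?_⟩
  · rintro b ⟨x, hx, rfl, h6⟩
    exact h6
  · intro s hs
    obtain ⟨a, ha, hsa⟩ := tgL_cover s hs
    refine ⟨a, ⟨(tgB_iff a).2 ha, hsa⟩, ?_⟩
    rintro b ⟨hb1, hb2⟩
    have hb := (tgB_iff b).1 hb1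
    by_contra hne
    have h1 := tgL_inter b hb a ha hne
    have h2 : s.card ≤ (b ∩ a).card := Finset.card_le_card (Finset.subset_inter hb2 hsa)
    omega
  · have e : {h : Finset Cfsg.ArrayPt | ∃ x ∈ Cfsg.ternaryGolayCode,
        Cfsg.ternarySupport x = h ∧ h.card = 6} = ↑tgL.toFinset := by
      ext h
      rw [tgB_iff]
      simp
    rw [e, Set.ncard_coe_finset, List.toFinset_card_of_nodup tgL_nodup, tgL_length]

end Cfsg.Agent.Lib.Helper6
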