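import Mathlib
import Cfsg.Agent.Lib.Helper6.NilMax
import Cfsg.Agent.Lib.Lead.Invol2

set_option autoImplicit false

namespace Cfsg.Agent.Lib.Helper6

universe u

/-- Wielandt's fusion argument: if a Sylow subgroup `S` of `G` centralises `x` and its conjugate
`y = u x u⁻¹`, then `x` and `y` are conjugate under the normaliser of `S` -/
theorem fusion_of_sylow_centralizes {G : Type u} [Group G] [Finite G] (H : Subgroup G) (r : ℕ)
    [Fact r.Prime] (S : Sylow r G) (hN : Subgroup.normalizer ((S : Subgroup G) : Set G) = H)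
    (x y u : G) (hy : u * x * u⁻¹ = y) (hx' : ∀ z ∈ (S : Subgroup G), z * x = x * z)
    (hy' : ∀ z ∈ (S : Subgroup G), z * y = y * z) : ∃ h ∈ H, h * x * h⁻¹ = y := by
  classical
  have hSC : (S : Subgroup G) ≤ Subgroup.centralizer ({y} : Set G) := by
    intro z hz
    rw [Subgroup.mem_centralizer_iff]
    intro w hw
    rw [Set.mem_singleton_iff] at hw
    rw [hw]; exact (hy' z hz).symm
  have hidx : ¬ r ∣ ((S : Subgroup G).subgroupOf (Subgroup.centralizer ({y} : Set G))).index := by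
    intro h
    exact S.not_dvd_index (dvd_trans h (Subgroup.relIndex_dvd_index_of_le hSC))
  let T : Sylow r ↥(Subgroup.centralizer ({y} : Set G)) :=
    (S.2.comap_subtype (K := Subgroup.centralizer ({y} : Set G))).toSylow hidx
  have hR : IsPGroup r ↥(((S : Subgroup G).map (MulAut.conj u).toMonoidHom).subgroupOf
      (Subgroup.centralizer ({y} : Set G))) := (S.2.map _).comap_subtype
  obtain ⟨c, hc⟩ := Cfsg.Agent.Lib.Lead.exists_conj_into_sylow T _ hR
  refine ⟨(c : G) * u, ?_, ?_⟩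
  · rw [← hN]
    apply mem_normalizer_of_conj_mem
    intro z hz
    have hw : u * z * u⁻¹ ∈ Subgroup.centralizer ({y} : Set G) := by
      rw [Subgroup.mem_centralizer_iff]
      intro w hw
      rw [Set.mem_singleton_iff] at hw
      rw [hw, ← hy]
      have h0 := hx' z hz
      calc u * x * u⁻¹ * (u * z * u⁻¹) = u * (x * z) * u⁻¹ := by group
        _ = u * (z * x) * u⁻¹ := by rw [h0]
        _ = u * z * u⁻¹ * (u * x * u⁻¹) := by group
    have h1 := hc ⟨u * z * u⁻¹, hw⟩ (Subgroup.mem_subgroupOf.mpr ⟨z, hz, rfl⟩)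
    have h2 : ((c * ⟨u * z * u⁻¹, hw⟩ * c⁻¹ : ↥(Subgroup.centralizer ({y} : Set G))) : G) ∈
        (S : Subgroup G) := Subgroup.mem_subgroupOf.mp h1
    have e : (c : G) * u * z * ((c : G) * u)⁻¹ = (c : G) * (u * z * u⁻¹) * (c : G)⁻¹ := by group
    rw [e]
    simpa using h2
  · have hcy : (c : G) * y = y * (c : G) := (Subgroup.mem_centralizer_iff.mp c.2 y rfl).symm
    calc (c : G) * u * x * ((c : G) * u)⁻¹ = (c : G) * (u * x * u⁻¹) * (c : G)⁻¹ := by group
      _ = (c : G) * y * (c : G)⁻¹ := by rw [hy]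
      _ = y := by rw [hcy]; group

/-- a nilpotent subgroup `H` is the commuting product of its Sylow `p`-subgroup and its
`p`-complement -/
theorem nilpotent_p_decomp {G : Type u} [Group G] [Finite G] (H : Subgroup G)
    (hnil : Group.IsNilpotent H) (p : ℕ) [hp : Fact p.Prime] :
    ∃ (P₁ : Sylow p H) (K' : Subgroup G), K' ≤ H ∧
      (∀ h ∈ H, ∃ k ∈ K', ∃ s ∈ (P₁ : Subgroup H).map H.subtype, h = k * s) ∧
      (∀ k ∈ K', ∀ s ∈ (P₁ : Subgroup H).map H.subtype, k * s = s * k) ∧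
      (∀ w ∈ H, (∃ m : ℕ, orderOf w = p ^ m) → w ∈ (P₁ : Subgroup H).map H.subtype) ∧
      (∀ w ∈ H, (orderOf w).Coprime p → w ∈ K') := by
  classical
  obtain ⟨P₁, K, hKn, hc⟩ := npc_of_nilpotent hnil p
  have htfae := Group.isNilpotent_of_finite_tfae (G := ↥H)
  have h03 : Group.IsNilpotent ↥H ↔ ∀ (p : ℕ) (_hp : Fact p.Prime) (P : Sylow p ↥H),
      (↑P : Subgroup ↥H).Normal := htfae.out 0 3
  have hP₁n : (P₁ : Subgroup ↥H).Normal := h03.mp hnil p hp P₁
  refine ⟨P₁, K.map H.subtype, Subgroup.map_subtype_le _, ?_, ?_, ?_, ?_⟩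
  · intro h hh
    obtain ⟨⟨⟨k, hk⟩, ⟨s, hs⟩⟩, hks⟩ := hc.2 ⟨h, hh⟩
    replace hks : k * s = ⟨h, hh⟩ := hks
    refine ⟨k, ⟨k, hk, rfl⟩, s, ⟨s, hs, rfl⟩, ?_⟩
    have := congrArg Subtype.val hks
    exact this.symm
  · rintro _ ⟨k, hk, rfl⟩ _ ⟨s, hs, rfl⟩
    have h1 := Subgroup.commute_of_normal_of_disjoint K (P₁ : Subgroup ↥H) hKn hP₁n hc.disjoint
      k s hk hs
    exact congrArg Subtype.val h1.eq
  · rintro w hw ⟨m, hm⟩
    have hord : orderOf (⟨w, hw⟩ : ↥H) = p ^ m := by rw [Subgroup.orderOf_mk]; exact hm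
    have h1 := mem_sylow_of_mem_normalizer P₁ hord (by
      rw [Subgroup.normalizer_eq_top_iff.mpr hP₁n]; exact Subgroup.mem_top _)
    exact ⟨⟨w, hw⟩, h1, rfl⟩
  · intro w hw hcop
    have hidx : K.index = Nat.card (P₁ : Subgroup ↥H) := hc.symm.index_eq_card
    obtain ⟨n, hn⟩ := IsPGroup.iff_card.mp P₁.2
    have h1 := Subgroup.pow_index_mem K (⟨w, hw⟩ : ↥H)
    rw [hidx, hn] at h1
    have hord : (orderOf (⟨w, hw⟩ : ↥H)).Coprime p := by rw [Subgroup.orderOf_mk]; exact hcop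
    obtain ⟨m, hm⟩ := exists_pow_eq_self_of_coprime (n := p ^ n) (x := (⟨w, hw⟩ : ↥H))
      (Nat.Coprime.pow_left n hord.symm)
    have h2 : (⟨w, hw⟩ : ↥H) ∈ K := by rw [← hm]; exact pow_mem h1 m
    exact ⟨⟨w, hw⟩, h2, rfl⟩

end Cfsg.Agent.Lib.Helper6
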